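import Cfsg.Agent.H754.FC.Sec
import Cfsg.Agent.H578.Base3
import Cfsg.Agent.H198.FC.Defs
set_option linter.all false

-- part: H754/FC/Cfg
section
/-!
# S5764, StmtRed: rigid configurations of five `a`-subspaces in a `2a`-space (helper754)
-/

set_option autoImplicit false

namespace Cfsg.Agent.H754.FC

open Cfsg.Agent.H198.FC Module

universe u v

section

variable {K : Type u} [Field K]

/-- a non-zero element moved by all non-trivial automorphisms -/
theorem exists_gen (K : Type u) [Field K] [Finite K] :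
    ∃ γ : K, γ ≠ 0 ∧ ∀ σ : K ≃+* K, σ γ = γ → ∀ a, σ a = a := by
  obtain ⟨g, hg⟩ := IsCyclic.exists_generator (α := Kˣ)
  refine ⟨g, g.ne_zero, fun σ hσ a => ?_⟩
  by_cases ha : a = 0
  · rw [ha, map_zero]
  · obtain ⟨n, hn⟩ := Subgroup.mem_zpowers_iff.1 (hg (Units.mk0 a ha))
    have h1 : a = (g : K) ^ n := by
      rw [← Units.val_zpow_eq_zpow_val, hn]
      rfl
    rw [h1, map_zpow₀, hσ]

variable {X : Type v} [AddCommGroup X] [Module K X]

/-- five copies `A, G 0 A, …, G 3 A` of `A` in `X` with scalar common stabilizer -/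
structure Cfg (A C : Submodule K X) (G : Fin 4 → (X ≃ₗ[K] X)) : Prop where
  span : ∀ x : X, ∃ a ∈ A, ∃ b ∈ A, x = a + G 0 b
  dis : ∀ x ∈ A, (G 0).symm x ∈ A → x = 0
  rig : ∀ k ∈ Semi K X, (∀ v ∈ A, k v ∈ A) → (∀ i, ∀ v ∈ A, (G i).symm (k (G i v)) ∈ A) →
    ∃ c : Kˣ, ∀ v, k v = (c : K) • v
  int : ∀ x ∈ C, (G 0).symm x ∈ C → (G 1).symm x ∈ C → (G 2).symm x ∈ C → x = 0

/-- `GL` is transitive on the subspaces of given dimension -/
theorem exists_map_eq [Module.Finite K X] (A A' : Submodule K X) (h : finrank K A = finrank K A') :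
    ∃ e : X ≃ₗ[K] X, ∀ v, v ∈ A ↔ e v ∈ A' := by
  obtain ⟨D, hD⟩ := A.exists_isCompl
  obtain ⟨D', hD'⟩ := A'.exists_isCompl
  have h1 := Submodule.finrank_add_eq_of_isCompl hD
  have h2 := Submodule.finrank_add_eq_of_isCompl hD'
  let f : A ≃ₗ[K] A' := LinearEquiv.ofFinrankEq A A' h
  let g : D ≃ₗ[K] D' := LinearEquiv.ofFinrankEq D D' (by omega)
  refine ⟨(Submodule.prodEquivOfIsCompl A D hD).symm.trans ((f.prodCongr g).trans
    (Submodule.prodEquivOfIsCompl A' D' hD')), fun v => ?_⟩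
  obtain ⟨⟨x, y⟩, rfl⟩ := (Submodule.prodEquivOfIsCompl A D hD).surjective v
  rw [LinearEquiv.trans_apply, LinearEquiv.symm_apply_apply, LinearEquiv.trans_apply,
    LinearEquiv.prodCongr_apply, Submodule.coe_prodEquivOfIsCompl', Submodule.coe_prodEquivOfIsCompl']
  have e1 : ((x : X) + (y : X) ∈ A) ↔ y = 0 := by
    rw [Submodule.add_mem_iff_right _ x.2]
    constructor
    · intro hy
      exact Subtype.ext (Submodule.disjoint_def.1 hD.disjoint _ hy y.2)
    · rintro rfl
      exact A.zero_mem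
  have e2 : (((f x : A') : X) + ((g y : D') : X) ∈ A') ↔ g y = 0 := by
    rw [Submodule.add_mem_iff_right _ (f x).2]
    constructor
    · intro hy
      exact Subtype.ext (Submodule.disjoint_def.1 hD'.disjoint _ hy (g y).2)
    · intro hy
      rw [hy]
      exact A'.zero_mem
  rw [e1, e2]
  exact (LinearEquiv.map_eq_zero_iff g).symm

/-- subspaces of all dimensions between two given ones -/
theorem exists_between [Module.Finite K X] {A B : Submodule K X} (hAB : A ≤ B) (n : ℕ)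
    (hn : finrank K A + n ≤ finrank K B) : ∃ C : Submodule K X, A ≤ C ∧ C ≤ B ∧ finrank K C = finrank K A + n := by
  induction n with
  | zero => exact ⟨A, le_refl _, hAB, rfl⟩
  | succ n ih =>
    obtain ⟨C, hAC, hCB, hC⟩ := ih (by omega)
    have hlt : C < B := lt_of_le_of_ne hCB (fun h => by rw [h] at hC; omega)
    obtain ⟨v, hvB, hvC⟩ := SetLike.exists_of_lt hlt
    have hv : v ≠ 0 := fun h => hvC (h ▸ C.zero_mem)
    refine ⟨C ⊔ Submodule.span K {v}, hAC.trans le_sup_left, sup_le hCB ?_, ?_⟩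
    · rw [Submodule.span_singleton_le_iff_mem]
      exact hvB
    · have h1 := Submodule.finrank_sup_add_finrank_inf_eq C (Submodule.span K {v})
      have h2 : C ⊓ Submodule.span K {v} = ⊥ := by
        rw [← disjoint_iff]
        exact (Submodule.disjoint_span_singleton' hv).2 hvC
      rw [h2, finrank_bot, finrank_span_singleton hv, hC] at h1
      omega

/-- moving a subspace off another one -/
theorem exists_disj [Module.Finite K X] (E E' : Submodule K X) (h : finrank K E + finrank K E' ≤ finrank K X) :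
    ∃ P : X ≃ₗ[K] X, ∀ v ∈ E, P v ∈ E' → v = 0 := by
  obtain ⟨D, hD⟩ := E'.exists_isCompl
  have h1 := Submodule.finrank_add_eq_of_isCompl hD
  obtain ⟨F, -, hFD, hF⟩ := exists_between (bot_le : (⊥ : Submodule K X) ≤ D) (finrank K E) (by
    rw [finrank_bot]; omega)
  rw [finrank_bot, zero_add] at hF
  obtain ⟨P, hP⟩ := exists_map_eq E F hF.symm
  refine ⟨P, fun v hv hv' => ?_⟩
  have h2 := Submodule.disjoint_def.1 hD.disjoint _ hv' (hFD ((hP v).1 hv))
  exact (LinearEquiv.map_eq_zero_iff P).1 h2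

end

/-! ### The model `W × W`, `W = K^(m+1)` -/

section model

variable {K : Type u} [Field K] {m : ℕ}

/-- the shift `e_{j+1} ↦ e_j` -/
def sh (K : Type u) [Field K] (m : ℕ) : (Fin (m + 1) → K) →ₗ[K] (Fin (m + 1) → K) where
  toFun v i := if h : (i : ℕ) + 1 < m + 1 then v ⟨i + 1, h⟩ else 0
  map_add' v w := by
    funext i
    by_cases h : (i : ℕ) + 1 < m + 1
    · simp only [dif_pos h, Pi.add_apply]
    · simp only [dif_neg h, Pi.add_apply, add_zero]
  map_smul' c v := by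
    funext i
    by_cases h : (i : ℕ) + 1 < m + 1
    · simp only [dif_pos h, Pi.smul_apply, RingHom.id_apply]
    · simp only [dif_neg h, Pi.smul_apply, RingHom.id_apply, smul_zero]

theorem sh_pow (v : Fin (m + 1) → K) (j : ℕ) : ∀ i : Fin (m + 1),
    ((sh K m)^[j] v) i = if h : (i : ℕ) + j < m + 1 then v ⟨i + j, h⟩ else 0 := by
  induction j generalizing v with
  | zero =>
    intro i
    rw [Function.iterate_zero, id_eq, dif_pos (by have := i.2; omega)]
    rfl
  | succ j ih =>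
    intro i
    rw [Function.iterate_succ, Function.comp_apply, ih]
    by_cases h : (i : ℕ) + (j + 1) < m + 1
    · rw [dif_pos h, dif_pos (by omega)]
      change (if h : (i : ℕ) + j + 1 < m + 1 then v ⟨i + j + 1, h⟩ else 0) = _
      rw [dif_pos (by omega)]
      rfl
    · rw [dif_neg h]
      by_cases h' : (i : ℕ) + j < m + 1
      · rw [dif_pos h']
        change (if h : (i : ℕ) + j + 1 < m + 1 then v ⟨i + j + 1, h⟩ else 0) = _
        rw [dif_neg (by omega)]
      · rw [dif_neg h']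

theorem sh_zero (v : Fin (m + 1) → K) (j : Fin (m + 1)) : ((sh K m)^[j] v) 0 = v j := by
  rw [sh_pow, dif_pos (by have := j.2; simp only [Fin.val_zero, zero_add]; omega)]
  congr 1
  apply Fin.ext
  simp

/-- `1 - sh` is injective -/
theorem sh_fix (v : Fin (m + 1) → K) (h : sh K m v = v) : v = 0 := by
  have h1 : ∀ j, (sh K m)^[j] v = v := by
    intro j
    induction j with
    | zero => rfl
    | succ j ih => rw [Function.iterate_succ, Function.comp_apply, h, ih]
  have h2 := h1 (m + 1)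
  funext i
  rw [← h2, sh_pow, dif_neg (by omega)]
  rfl

/-- `γ E_{00}` -/
def ga (γ : K) : (Fin (m + 1) → K) →ₗ[K] (Fin (m + 1) → K) where
  toFun v := Pi.single 0 (γ * v 0)
  map_add' v w := by
    rw [Pi.add_apply, mul_add, Pi.single_add]
  map_smul' c v := by
    rw [Pi.smul_apply, smul_eq_mul, RingHom.id_apply, ← Pi.single_smul, smul_eq_mul]
    congr 1
    ring

/-- the universal rigid pair -/
theorem rigid_pair {γ : K} (hγ : γ ≠ 0) (hg : ∀ σ : K ≃+* K, σ γ = γ → ∀ a, σ a = a)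
    (g : (Fin (m + 1) → K) → (Fin (m + 1) → K)) (σ : K ≃+* K) (g0 : ∀ v, g v = 0 → v = 0)
    (gs : ∀ (a : K) v, g (a • v) = σ a • g v) (h1 : ∀ v, g (sh K m v) = sh K m (g v))
    (h2 : ∀ v, g (ga γ v) = ga γ (g v)) : ∃ c : Kˣ, ∀ v, g v = (c : K) • v := by
  have h1' : ∀ (j : ℕ) v, g ((sh K m)^[j] v) = (sh K m)^[j] (g v) := by
    intro j
    induction j with
    | zero => intro v; rfl
    | succ j ih => intro v; rw [Function.iterate_succ, Function.comp_apply, ih, h1, Function.comp_apply]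
  set e : Fin (m + 1) → K := Pi.single 0 1 with he
  have e00 : e 0 = 1 := by rw [he, Pi.single_eq_same]
  have hsing : ∀ a : K, (Pi.single 0 a : Fin (m + 1) → K) = a • e := by
    intro a
    rw [he, ← Pi.single_smul, smul_eq_mul, mul_one]
  have key : ∀ (j : Fin (m + 1)) v, σ (γ * v j) • g e = (γ * g v j) • e := by
    intro j v
    have h3 := h2 ((sh K m)^[j] v)
    rw [h1'] at h3
    change g (Pi.single 0 (γ * ((sh K m)^[j] v) 0)) = Pi.single 0 (γ * ((sh K m)^[j] (g v)) 0) at h3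
    rw [sh_zero, sh_zero, hsing, hsing, gs] at h3
    exact h3
  have hge : g e ≠ 0 := by
    intro h
    have := g0 e h
    rw [this] at e00
    exact zero_ne_one e00
  have k0 := key 0 e
  rw [e00, mul_one] at k0
  have hσγ : σ γ ≠ 0 := by
    rw [Ne, map_eq_zero]
    exact hγ
  have hc : g e = ((σ γ)⁻¹ * (γ * g e 0)) • e := by
    rw [mul_smul, ← k0, smul_smul, inv_mul_cancel₀ hσγ, one_smul]
  have hc0 : g e 0 = (σ γ)⁻¹ * (γ * g e 0) := by
    have := congrFun hc 0
    rwa [Pi.smul_apply, e00, smul_eq_mul, mul_one] at this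
  have hne : g e 0 ≠ 0 := by
    intro h
    rw [h, mul_zero, mul_zero, zero_smul] at hc
    exact hge hc
  have hσ : σ γ = γ := by
    have : σ γ * g e 0 = γ * g e 0 := by
      rw [hc0, ← mul_assoc, mul_inv_cancel₀ hσγ, one_mul, ← hc0]
    exact mul_right_cancel₀ hne this
  have hσ' := hg σ hσ
  rw [← hc0] at hc
  refine ⟨Units.mk0 _ hne, fun v => ?_⟩
  funext j
  have h4 := key j v
  rw [hσ', hc, smul_smul] at h4
  have h5 := congrFun h4 0
  rw [Pi.smul_apply, Pi.smul_apply, e00, smul_eq_mul, smul_eq_mul, mul_one, mul_one, mul_assoc] at h5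
  have h6 := mul_left_cancel₀ hγ h5
  rw [← h6, Pi.smul_apply, Units.val_mk0, smul_eq_mul, mul_comm]

/-- `(x, y) ↦ (x, M x + P y)` -/
def gr {W : Type v} [AddCommGroup W] [Module K W] (M : W →ₗ[K] W) (P : W ≃ₗ[K] W) : (W × W) ≃ₗ[K] (W × W) where
  toFun p := (p.1, M p.1 + P p.2)
  invFun p := (p.1, P.symm (p.2 - M p.1))
  left_inv p := by
    simp
  right_inv p := by
    simp
  map_add' p q := by
    ext
    · rfl
    · simp only [Prod.fst_add, Prod.snd_add, map_add]
      abel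
  map_smul' c p := by
    ext
    · rfl
    · simp only [Prod.smul_fst, Prod.smul_snd, map_smul, RingHom.id_apply, smul_add]

/-- the model configuration -/
theorem cfg_model [Finite K] (E : Submodule K (Fin (m + 1) → K)) (hE : 2 * finrank K E ≤ m + 1) :
    ∃ G : Fin 4 → (((Fin (m + 1) → K) × (Fin (m + 1) → K)) ≃ₗ[K] ((Fin (m + 1) → K) × (Fin (m + 1) → K))),
      Cfg (Submodule.prod ⊤ ⊥) (Submodule.prod ⊤ E) G := by
  obtain ⟨γ, hγ, hg⟩ := exists_gen K
  have hf : finrank K (Fin (m + 1) → K) = m + 1 := by rw [finrank_fin_fun]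
  obtain ⟨P, hP⟩ := exists_disj E E (by rw [hf]; omega)
  let N1 : (Fin (m + 1) → K) →ₗ[K] (Fin (m + 1) → K) := LinearMap.id - sh K m
  obtain ⟨Q, hQ⟩ := exists_disj E (E.map N1) (by
    have := Submodule.finrank_map_le N1 E
    rw [hf]; omega)
  refine ⟨![LinearEquiv.prodComm K _ _, gr LinearMap.id P, gr (sh K m) Q, gr (ga γ) (LinearEquiv.refl K _)],
    ⟨?_, ?_, ?_, ?_⟩⟩
  · rintro ⟨x, y⟩
    refine ⟨(x, 0), ⟨Submodule.mem_top, Submodule.zero_mem _⟩, (y, 0), ⟨Submodule.mem_top, Submodule.zero_mem _⟩, ?_⟩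
    change (x, y) = (x, 0) + (0, y)
    rw [Prod.mk_add_mk, add_zero, zero_add]
  · rintro ⟨x, y⟩ h1 h2
    exact Prod.ext ((Submodule.mem_bot K).1 h2.2) ((Submodule.mem_bot K).1 h1.2)
  · intro k hk hA hG
    obtain ⟨k0, σ, ks⟩ := id hk
    have a1 : ∀ x, (k (x, 0)).2 = 0 := fun x =>
      (Submodule.mem_bot K).1 (hA (x, 0) ⟨Submodule.mem_top, Submodule.zero_mem _⟩).2
    have a2 : ∀ y, (k (0, y)).1 = 0 := fun y =>
      (Submodule.mem_bot K).1 (hG 0 (y, 0) ⟨Submodule.mem_top, Submodule.zero_mem _⟩).2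
    have sp : ∀ x y, k (x, y) = k (x, 0) + k (0, y) := by
      intro x y
      rw [← k0, Prod.mk_add_mk, add_zero, zero_add]
    have a3 : ∀ x, (k (0, x)).2 = (k (x, 0)).1 := by
      intro x
      have := (Submodule.mem_bot K).1 (hG 1 (x, 0) ⟨Submodule.mem_top, Submodule.zero_mem _⟩).2
      change P.symm ((k (x, x + P 0)).2 - (k (x, x + P 0)).1) = 0 at this
      rw [map_zero, add_zero, LinearEquiv.map_eq_zero_iff, sub_eq_zero, sp, Prod.snd_add, Prod.fst_add, a1, a2,
        zero_add, add_zero] at this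
      exact this
    let g : (Fin (m + 1) → K) → (Fin (m + 1) → K) := fun x => (k (x, 0)).1
    have hk' : ∀ x y, k (x, y) = (g x, g y) := by
      intro x y
      rw [sp]
      ext1
      · rw [Prod.fst_add, a2, add_zero]
      · rw [Prod.snd_add, a1, zero_add, a3]
    have gr' : ∀ (M : (Fin (m + 1) → K) →ₗ[K] (Fin (m + 1) → K)) (R : (Fin (m + 1) → K) ≃ₗ[K] (Fin (m + 1) → K)) x,
        (gr M R).symm (k (gr M R (x, 0))) ∈ Submodule.prod (⊤ : Submodule K (Fin (m + 1) → K)) ⊥ →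
        g (M x) = M (g x) := by
      intro M R x h
      have := (Submodule.mem_bot K).1 h.2
      change R.symm ((k (x, M x + R 0)).2 - M (k (x, M x + R 0)).1) = 0 at this
      rw [map_zero, add_zero, LinearEquiv.map_eq_zero_iff, sub_eq_zero, hk'] at this
      exact this
    obtain ⟨c, hc⟩ := rigid_pair hγ hg g σ (fun v hv => by
        have h1 : k (v, 0) = 0 := by
          ext1
          · exact hv
          · exact a1 v
        have h2 := k.injective (h1.trans (semi_zero hk).symm)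
        exact congrArg Prod.fst h2)
      (fun a v => by
        have := ks a (v, 0)
        rw [Prod.smul_mk, smul_zero] at this
        exact congrArg Prod.fst this)
      (fun x => gr' _ _ x (hG 2 (x, 0) ⟨Submodule.mem_top, Submodule.zero_mem _⟩))
      (fun x => gr' _ _ x (hG 3 (x, 0) ⟨Submodule.mem_top, Submodule.zero_mem _⟩))
    refine ⟨c, ?_⟩
    rintro ⟨x, y⟩
    rw [hk', hc, hc]
    rfl
  · rintro ⟨x, y⟩ hx h0 h1 h2
    have b0 : y ∈ E := hx.2
    have b1 : x ∈ E := h0.2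
    have b2 : P.symm (y - x) ∈ E := h1.2
    have b3 : Q.symm (y - sh K m x) ∈ E := h2.2
    have c1 : P.symm (y - x) = 0 := hP _ b2 (by
      rw [LinearEquiv.apply_symm_apply]
      exact E.sub_mem b0 b1)
    rw [LinearEquiv.map_eq_zero_iff, sub_eq_zero] at c1
    subst c1
    have c2 : Q.symm (y - sh K m y) = 0 := hQ _ b3 (by
      rw [LinearEquiv.apply_symm_apply]
      exact ⟨y, b0, rfl⟩)
    rw [LinearEquiv.map_eq_zero_iff, sub_eq_zero] at c2
    have c3 := sh_fix y c2.symm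
    rw [c3]
    rfl

end model

/-- **the configuration** -/
theorem exists_cfg {K : Type u} [Field K] [Finite K] {X : Type v} [AddCommGroup X] [Module K X] [Module.Finite K X]
    (A C : Submodule K X) (hAC : A ≤ C) (a ε : ℕ) (ha : finrank K A = a) (ha1 : 1 ≤ a)
    (hX : finrank K X = 2 * a) (hC : finrank K C = a + ε) (hε : 2 * ε ≤ a) :
    ∃ G : Fin 4 → (X ≃ₗ[K] X), Cfg A C G := by
  obtain ⟨m, rfl⟩ : ∃ m, a = m + 1 := ⟨a - 1, by omega⟩
  obtain ⟨D, hD⟩ := A.exists_isCompl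
  have h1 := Submodule.finrank_add_eq_of_isCompl hD
  have hf : finrank K (Fin (m + 1) → K) = m + 1 := by rw [finrank_fin_fun]
  let f : A ≃ₗ[K] (Fin (m + 1) → K) := LinearEquiv.ofFinrankEq _ _ (by rw [hf, ha])
  let g : D ≃ₗ[K] (Fin (m + 1) → K) := LinearEquiv.ofFinrankEq _ _ (by rw [hf]; omega)
  let e : X ≃ₗ[K] ((Fin (m + 1) → K) × (Fin (m + 1) → K)) :=
    (Submodule.prodEquivOfIsCompl A D hD).symm.trans (f.prodCongr g)
  have heA : ∀ x, x ∈ A ↔ (e x).2 = 0 := by
    intro x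
    obtain ⟨⟨y, z⟩, rfl⟩ := (Submodule.prodEquivOfIsCompl A D hD).surjective x
    have h2 : e ((Submodule.prodEquivOfIsCompl A D hD) (y, z)) = (f y, g z) := by
      change (f.prodCongr g) ((Submodule.prodEquivOfIsCompl A D hD).symm _) = _
      rw [LinearEquiv.symm_apply_apply]
      rfl
    rw [h2]
    change _ ↔ g z = 0
    rw [LinearEquiv.map_eq_zero_iff, Submodule.coe_prodEquivOfIsCompl', Submodule.add_mem_iff_right _ y.2]
    constructor
    · intro hy
      exact Subtype.ext (Submodule.disjoint_def.1 hD.disjoint _ hy z.2)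
    · rintro rfl
      exact A.zero_mem
  let E : Submodule K (Fin (m + 1) → K) := C.comap ((e.symm : ((Fin (m + 1) → K) × (Fin (m + 1) → K)) →ₗ[K] X).comp
    (LinearMap.inr K (Fin (m + 1) → K) (Fin (m + 1) → K)))
  have hEC : ∀ x, x ∈ C ↔ (e x).2 ∈ E := by
    intro x
    change _ ↔ e.symm (0, (e x).2) ∈ C
    have h3 : e.symm (0, (e x).2) = x - e.symm ((e x).1, 0) := by
      apply e.injective
      rw [map_sub, LinearEquiv.apply_symm_apply, LinearEquiv.apply_symm_apply]
      ext1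
      · simp
      · simp
    rw [h3]
    have h4 : e.symm ((e x).1, 0) ∈ C := hAC ((heA _).2 (by rw [LinearEquiv.apply_symm_apply]))
    exact (Submodule.sub_mem_iff_left _ h4).symm
  have hEd : finrank K E ≤ ε := by
    let φ : ((Fin (m + 1) → K) × E) →ₗ[K] X :=
      (e.symm : ((Fin (m + 1) → K) × (Fin (m + 1) → K)) →ₗ[K] X).comp (LinearMap.prodMap LinearMap.id E.subtype)
    have hφ : ∀ p, φ p ∈ C := by
      rintro ⟨x, y⟩
      rw [hEC]
      change (e (e.symm (x, (y : _)))).2 ∈ E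
      rw [LinearEquiv.apply_symm_apply]
      exact y.2
    have hinj : Function.Injective (LinearMap.codRestrict C φ hφ) := by
      rintro ⟨x, y⟩ ⟨x', y'⟩ h
      have h5 := congrArg Subtype.val h
      change e.symm (x, (y : _)) = e.symm (x', (y' : _)) at h5
      have h6 := e.symm.injective h5
      rw [Prod.mk.injEq] at h6
      rw [Prod.mk.injEq]
      exact ⟨h6.1, Subtype.ext h6.2⟩
    have := LinearMap.finrank_le_finrank_of_injective hinj
    rw [finrank_prod, hf, hC] at this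
    omega
  obtain ⟨G, hG⟩ := cfg_model E (by omega)
  have hA' : ∀ x, x ∈ A ↔ e x ∈ Submodule.prod (⊤ : Submodule K (Fin (m + 1) → K)) (⊥ : Submodule K (Fin (m + 1) → K)) := by
    intro x
    rw [heA, Submodule.mem_prod, Submodule.mem_bot]
    exact ⟨fun h => ⟨Submodule.mem_top, h⟩, fun h => h.2⟩
  have hC' : ∀ x, x ∈ C ↔ e x ∈ Submodule.prod (⊤ : Submodule K (Fin (m + 1) → K)) E := by
    intro x
    rw [hEC, Submodule.mem_prod]
    exact ⟨fun h => ⟨Submodule.mem_top, h⟩, fun h => h.2⟩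
  refine ⟨fun i => e.trans ((G i).trans e.symm), ⟨fun x => ?_, fun x h1 h2 => ?_, fun k hk hkA hkG => ?_,
    fun x h0 h1 h2 h3 => ?_⟩⟩
  · obtain ⟨a, ha, b, hb, h⟩ := hG.span (e x)
    refine ⟨e.symm a, (hA' _).2 (by rwa [LinearEquiv.apply_symm_apply]), e.symm b,
      (hA' _).2 (by rwa [LinearEquiv.apply_symm_apply]), ?_⟩
    change x = e.symm a + e.symm (G 0 (e (e.symm b)))
    rw [LinearEquiv.apply_symm_apply, ← map_add, ← h, LinearEquiv.symm_apply_apply]
  · change e.symm ((G 0).symm (e x)) ∈ A at h2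
    rw [hA', LinearEquiv.apply_symm_apply] at h2
    exact (LinearEquiv.map_eq_zero_iff e).1 (hG.dis (e x) ((hA' x).1 h1) h2)
  · obtain ⟨k0, σ, ks⟩ := id hk
    let k' : Equiv.Perm ((Fin (m + 1) → K) × (Fin (m + 1) → K)) := (e.symm.toEquiv.trans k).trans e.toEquiv
    have hk' : ∀ p, k' p = e (k (e.symm p)) := fun _ => rfl
    obtain ⟨c, hc⟩ := hG.rig k' ⟨fun p q => by rw [hk', hk', hk', map_add, k0, map_add],
        σ, fun a p => by rw [hk', hk', map_smul, ks, map_smul]⟩
      (fun p hp => by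
        rw [hk', ← hA']
        exact hkA _ ((hA' _).2 (by rwa [LinearEquiv.apply_symm_apply])))
      (fun i p hp => by
        have := hkG i (e.symm p) ((hA' _).2 (by rwa [LinearEquiv.apply_symm_apply]))
        change e.symm ((G i).symm (e (k (e.symm (G i (e (e.symm p))))))) ∈ A at this
        rw [LinearEquiv.apply_symm_apply, hA', LinearEquiv.apply_symm_apply] at this
        exact this)
    refine ⟨c, fun v => ?_⟩
    have := hc (e v)
    rw [hk', LinearEquiv.symm_apply_apply, ← map_smul] at this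
    exact e.injective this
  · have tr : ∀ i, (e.trans ((G i).trans e.symm)).symm x ∈ C → (G i).symm (e x) ∈ Submodule.prod (⊤ : Submodule K (Fin (m + 1) → K)) E := by
      intro i h
      change e.symm ((G i).symm (e x)) ∈ C at h
      rw [hC', LinearEquiv.apply_symm_apply] at h
      exact h
    have := hG.int (e x) ((hC' x).1 h0) (tr 0 h1) (tr 1 h2) (tr 2 h3)
    exact (LinearEquiv.map_eq_zero_iff e).1 this

end Cfsg.Agent.H754.FC
end

-- part: H754/FC/Core
section
/-!
# S5764, StmtRed, case (II): the core (helper754)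

`V = X × Y`, `A ≤ C ≤ X`, `S` fixes `A × 0` and `C × Y`.
-/

set_option autoImplicit false

namespace Cfsg.Agent.H754.FC

open Cfsg.Agent.H198.FC Module

universe u v

variable {K : Type u} [Field K] {X Y : Type v} [AddCommGroup X] [Module K X] [AddCommGroup Y] [Module K Y]

/-! ### The induced group on `Y = (C × Y) / (C × 0)` -/

section ind

variable (S : Subgroup (Equiv.Perm (X × Y))) (C : Submodule K X)

/-- the stabilizer of `C × 0` -/
def stC : Subgroup (Equiv.Perm (X × Y)) where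
  carrier := {s | s ∈ S ∧ ∀ p, s p ∈ C.prod (⊥ : Submodule K Y) ↔ p ∈ C.prod (⊥ : Submodule K Y)}
  one_mem' := ⟨one_mem _, fun _ => Iff.rfl⟩
  mul_mem' := by
    rintro s t ⟨hs, hs'⟩ ⟨ht, ht'⟩
    exact ⟨mul_mem hs ht, fun p => (hs' (t p)).trans (ht' p)⟩
  inv_mem' := by
    rintro s ⟨hs, hs'⟩
    refine ⟨inv_mem hs, fun p => ?_⟩
    rw [← hs', app_inv]

variable {S C}

theorem stC_le : stC S C ≤ S := fun _ h => h.1

theorem stC_snd (hS : S ≤ Semi K (X × Y)) {s : Equiv.Perm (X × Y)} (hs : s ∈ stC S C) {x : X} (hx : x ∈ C) (y : Y) :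
    (s (x, y)).2 = (s (0, y)).2 := by
  have h1 : s (x, y) = s (x, 0) + s (0, y) := by
    rw [← semi_add (hS hs.1), Prod.mk_add_mk, add_zero, zero_add]
  have h2 := ((hs.2 (x, 0)).2 ⟨hx, Submodule.zero_mem _⟩).2
  rw [h1, Prod.snd_add, (Submodule.mem_bot K).1 h2, zero_add]

variable (S C) in
/-- the action on `Y` -/
def ind (hS : S ≤ Semi K (X × Y)) (invB : ∀ g ∈ S, ∀ v ∈ C.prod (⊤ : Submodule K Y), g v ∈ C.prod (⊤ : Submodule K Y)) :
    stC S C →* Equiv.Perm Y where
  toFun s :=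
    { toFun := fun y => ((s : Equiv.Perm (X × Y)) (0, y)).2
      invFun := fun y => (((s⁻¹ : stC S C) : Equiv.Perm (X × Y)) (0, y)).2
      left_inv := fun y => by
        have h1 := (invB s s.2.1 (0, y) ⟨C.zero_mem, Submodule.mem_top⟩).1
        have h2 := stC_snd hS (s⁻¹ : stC S C).2 h1 ((s : Equiv.Perm (X × Y)) (0, y)).2
        change (((s⁻¹ : stC S C) : Equiv.Perm (X × Y)) (0, ((s : Equiv.Perm (X × Y)) (0, y)).2)).2 = y
        rw [← h2]
        change ((s : Equiv.Perm (X × Y))⁻¹ ((s : Equiv.Perm (X × Y)) (0, y))).2 = y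
        rw [inv_app]
      right_inv := fun y => by
        have h1 := (invB (s⁻¹ : stC S C) (s⁻¹ : stC S C).2.1 (0, y) ⟨C.zero_mem, Submodule.mem_top⟩).1
        have h2 := stC_snd hS s.2 h1 (((s⁻¹ : stC S C) : Equiv.Perm (X × Y)) (0, y)).2
        change ((s : Equiv.Perm (X × Y)) (0, (((s⁻¹ : stC S C) : Equiv.Perm (X × Y)) (0, y)).2)).2 = y
        rw [← h2]
        change ((s : Equiv.Perm (X × Y)) ((s : Equiv.Perm (X × Y))⁻¹ (0, y))).2 = y
        rw [app_inv] }
  map_one' := by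
    apply Equiv.ext
    intro y
    rfl
  map_mul' s t := by
    apply Equiv.ext
    intro y
    have h1 := (invB t t.2.1 (0, y) ⟨C.zero_mem, Submodule.mem_top⟩).1
    exact stC_snd hS s.2 h1 ((t : Equiv.Perm (X × Y)) (0, y)).2

variable (hS : S ≤ Semi K (X × Y))
  (invB : ∀ g ∈ S, ∀ v ∈ C.prod (⊤ : Submodule K Y), g v ∈ C.prod (⊤ : Submodule K Y))

theorem ind_apply (s : stC S C) (y : Y) : ind S C hS invB s y = ((s : Equiv.Perm (X × Y)) (0, y)).2 := rfl

theorem ind_range_le : (ind S C hS invB).range ≤ Semi K Y := by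
  rintro _ ⟨s, rfl⟩
  obtain ⟨h0, σ, hs⟩ := hS s.2.1
  refine ⟨fun y y' => ?_, σ, fun a y => ?_⟩
  · rw [ind_apply, ind_apply, ind_apply, ← Prod.snd_add, ← h0, Prod.mk_add_mk, add_zero]
  · rw [ind_apply, ind_apply, ← Prod.smul_snd, ← hs, Prod.smul_mk, smul_zero]

theorem hm_mem_ind (hh : ∀ a, hm K (X × Y) a ∈ S) (a : Kˣ) : hm K Y a ∈ (ind S C hS invB).range := by
  have h1 : hm K (X × Y) a ∈ stC S C := by
    refine ⟨hh a, fun p => ?_⟩
    rw [hm_apply]
    exact Submodule.smul_mem_iff _ a.ne_zero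
  refine ⟨⟨_, h1⟩, ?_⟩
  apply Equiv.ext
  intro y
  rw [ind_apply, hm_apply]
  rfl

theorem ind_solvable (hsol : Group.IsSolvable S) : Group.IsSolvable (ind S C hS invB).range := by
  have h1 : Group.IsSolvable (stC S C) :=
    Group.isSolvable_of_isSolvable_injective (f := Subgroup.inclusion (stC_le (S := S) (C := C)))
      (Subgroup.inclusion_injective _)
  exact Group.isSolvable_of_surjective (f := (ind S C hS invB).rangeRestrict)
    (ind S C hS invB).rangeRestrict_surjective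

end ind

/-! ### The core -/

/-- `(x', y') ↦ (G⁻¹ (x' - φ y'), x y')`, the inverse of `(1 + φ) (G ⊕ x⁻¹)` -/
def zz (G : X ≃ₗ[K] X) (x : Y ≃ₗ[K] Y) (φ : Y →ₗ[K] X) : (X × Y) ≃ₗ[K] (X × Y) where
  toFun p := (G.symm (p.1 - φ p.2), x p.2)
  invFun p := (G p.1 + φ (x.symm p.2), x.symm p.2)
  left_inv p := by
    simp
  right_inv p := by
    simp
  map_add' p q := by
    ext
    · simp only [Prod.fst_add, Prod.snd_add, map_add, map_sub]
      abel
    · simp only [Prod.snd_add, map_add]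
  map_smul' c p := by
    ext
    · simp only [Prod.smul_fst, Prod.smul_snd, map_smul, map_sub, RingHom.id_apply, smul_sub]
    · simp only [Prod.smul_snd, map_smul, RingHom.id_apply]

theorem zz_apply (G : X ≃ₗ[K] X) (x : Y ≃ₗ[K] Y) (φ : Y →ₗ[K] X) (a : X) (b : Y) :
    (zz G x φ).toEquiv (a, b) = (G.symm (a - φ b), x b) := rfl

theorem zz_inv (G : X ≃ₗ[K] X) (x : Y ≃ₗ[K] Y) (φ : Y →ₗ[K] X) (a : X) (b : Y) :
    ((zz G x φ).toEquiv : Equiv.Perm (X × Y))⁻¹ (a, b) = (G a + φ (x.symm b), x.symm b) := rfl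

section core

variable (S : Subgroup (Equiv.Perm (X × Y))) (hS : S ≤ Semi K (X × Y)) (A C : Submodule K X)
  (invA : ∀ g ∈ S, ∀ v ∈ A.prod (⊥ : Submodule K Y), g v ∈ A.prod (⊥ : Submodule K Y))
  (invB : ∀ g ∈ S, ∀ v ∈ C.prod (⊤ : Submodule K Y), g v ∈ C.prod (⊤ : Submodule K Y))
  (G : Fin 4 → (X ≃ₗ[K] X)) (x : Fin 4 → (Y ≃ₗ[K] Y)) (φ : Fin 4 → (Y →ₗ[K] X))

/-- the elements of the intersection -/
def Int5 (k : Equiv.Perm (X × Y)) : Prop :=
  k ∈ hat S (A.prod (⊥ : Submodule K Y)) hS invA ∧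
  ∀ i, ((zz (G i) (x i) (φ i)).toEquiv : Equiv.Perm (X × Y)) * k *
    ((zz (G i) (x i) (φ i)).toEquiv : Equiv.Perm (X × Y))⁻¹ ∈ hat S (A.prod (⊥ : Submodule K Y)) hS invA

variable {S hS A C invA G x φ}

theorem Int5.inv {k : Equiv.Perm (X × Y)} (h : Int5 S hS A invA G x φ k) : Int5 S hS A invA G x φ k⁻¹ := by
  refine ⟨inv_mem h.1, fun i => ?_⟩
  have := inv_mem (h.2 i)
  rw [mul_inv_rev, mul_inv_rev, inv_inv, ← mul_assoc] at this
  exact this

theorem hat_mapA {k : Equiv.Perm (X × Y)} (hk : k ∈ hat S (A.prod (⊥ : Submodule K Y)) hS invA) :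
    ∀ v ∈ A.prod (⊥ : Submodule K Y), k v ∈ A.prod (⊥ : Submodule K Y) := by
  obtain ⟨_, s, hs, hk⟩ := hk
  intro v hv
  have := (A.prod (⊥ : Submodule K Y)).add_mem (hk v) (invA s hs v hv)
  rwa [sub_add_cancel] at this

include invB in
theorem hat_mapB (hAC : A ≤ C) {k : Equiv.Perm (X × Y)} (hk : k ∈ hat S (A.prod (⊥ : Submodule K Y)) hS invA) :
    ∀ v ∈ C.prod (⊤ : Submodule K Y), k v ∈ C.prod (⊤ : Submodule K Y) := by
  obtain ⟨_, s, hs, hk⟩ := hk
  intro v hv
  have := (C.prod (⊤ : Submodule K Y)).add_mem (Submodule.prod_mono hAC bot_le (hk v)) (invB s hs v hv)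
  rwa [sub_add_cancel] at this

theorem Int5.conjA {k : Equiv.Perm (X × Y)} (h : Int5 S hS A invA G x φ k) (i : Fin 4) {v : X} (hv : v ∈ A) :
    (k (G i v, 0)).2 = 0 ∧ (G i).symm (k (G i v, 0)).1 ∈ A := by
  have h1 := hat_mapA (h.2 i) (v, 0) ⟨hv, Submodule.zero_mem _⟩
  rw [Equiv.Perm.mul_apply, Equiv.Perm.mul_apply, zz_inv, map_zero, map_zero, add_zero] at h1
  obtain ⟨h2, h3⟩ := h1
  have h4 : (k (G i v, 0)).2 = 0 := by
    have := (Submodule.mem_bot K).1 h3
    exact (LinearEquiv.map_eq_zero_iff (x i)).1 this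
  refine ⟨h4, ?_⟩
  change (G i).symm ((k (G i v, 0)).1 - φ i (k (G i v, 0)).2) ∈ A at h2
  rwa [h4, map_zero, sub_zero] at h2

theorem Int5.snd {k : Equiv.Perm (X × Y)} (h : Int5 S hS A invA G x φ k)
    (hG : ∀ x : X, ∃ a ∈ A, ∃ b ∈ A, x = a + G 0 b) (v : X) : (k (v, 0)).2 = 0 := by
  obtain ⟨a, ha, b, hb, rfl⟩ := hG v
  have h1 : k (a + G 0 b, 0) = k (a, 0) + k (G 0 b, 0) := by
    rw [← semi_add h.1.1, Prod.mk_add_mk, add_zero]
  rw [h1, Prod.snd_add, (h.conjA 0 hb).1, add_zero]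
  exact (Submodule.mem_bot K).1 (hat_mapA h.1 (a, 0) ⟨ha, Submodule.zero_mem _⟩).2

theorem Int5.scalar {k : Equiv.Perm (X × Y)} (h : Int5 S hS A invA G x φ k)
    (hG : ∀ x : X, ∃ a ∈ A, ∃ b ∈ A, x = a + G 0 b)
    (rig : ∀ k ∈ Semi K X, (∀ v ∈ A, k v ∈ A) → (∀ i, ∀ v ∈ A, (G i).symm (k (G i v)) ∈ A) →
      ∃ c : Kˣ, ∀ v, k v = (c : K) • v) :
    ∃ c : Kˣ, ∀ v, k (v, 0) = ((c : K) • v, 0) := by
  obtain ⟨k0, σ, ks⟩ := id h.1.1
  have e : ∀ v, k (v, 0) = ((k (v, 0)).1, 0) := fun v => Prod.ext rfl (h.snd hG v)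
  have e' : ∀ v, k⁻¹ (v, 0) = ((k⁻¹ (v, 0)).1, 0) := fun v => Prod.ext rfl (h.inv.snd hG v)
  let g : Equiv.Perm X :=
    { toFun := fun v => (k (v, 0)).1
      invFun := fun v => (k⁻¹ (v, 0)).1
      left_inv := fun v => by
        change (k⁻¹ ((k (v, 0)).1, 0)).1 = v
        rw [← e, inv_app]
      right_inv := fun v => by
        change (k ((k⁻¹ (v, 0)).1, 0)).1 = v
        rw [← e', app_inv] }
  have hg : ∀ v, g v = (k (v, 0)).1 := fun _ => rfl
  obtain ⟨c, hc⟩ := rig g ⟨fun v w => by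
      rw [hg, hg, hg, ← Prod.fst_add, ← k0, Prod.mk_add_mk, add_zero],
      σ, fun a v => by rw [hg, hg, ← Prod.smul_fst, ← ks, Prod.smul_mk, smul_zero]⟩
    (fun v hv => (hat_mapA h.1 (v, 0) ⟨hv, Submodule.zero_mem _⟩).1)
    (fun i v hv => (h.conjA i hv).2)
  exact ⟨c, fun v => by rw [e, ← hg, hc]⟩

include invB in
/-- elements of `hat` acting as a scalar on `X` induce elements of `ind` on `Y` -/
theorem exists_ind (hAC : A ≤ C) {k : Equiv.Perm (X × Y)} (hk : k ∈ hat S (A.prod (⊥ : Submodule K Y)) hS invA)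
    {c : Kˣ} (hc : ∀ v, k (v, 0) = ((c : K) • v, 0)) :
    ∃ κ ∈ (ind S C hS invB).range, ∀ y, κ y = (k (0, y)).2 := by
  obtain ⟨hk1, s, hs, hk⟩ := hk
  have hle : ∀ v, k v - s v ∈ C.prod (⊥ : Submodule K Y) := fun v => Submodule.prod_mono hAC le_rfl (hk v)
  have hst : s ∈ stC S C := by
    refine ⟨hs, fun p => ⟨fun hp => ?_, fun hp => ?_⟩⟩
    · have h1 := (C.prod (⊥ : Submodule K Y)).add_mem (hle p) hp
      rw [sub_add_cancel] at h1
      obtain ⟨h2, h3⟩ := h1
      have h4 : k ((c⁻¹ : Kˣ) • (k p).1, 0) = k p := by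
        rw [hc]
        refine Prod.ext ?_ ((Submodule.mem_bot K).1 h3).symm
        rw [Units.smul_def, smul_smul, Units.mul_inv, one_smul]
      have h5 := k.injective h4
      rw [← h5]
      refine ⟨?_, Submodule.zero_mem _⟩
      exact C.smul_mem _ h2
    · obtain ⟨h2, h3⟩ := hp
      have h4 : p = (p.1, 0) := Prod.ext rfl ((Submodule.mem_bot K).1 h3)
      have h5 : k p ∈ C.prod (⊥ : Submodule K Y) := by
        rw [h4, hc]
        exact ⟨C.smul_mem _ h2, Submodule.zero_mem _⟩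
      have := (C.prod (⊥ : Submodule K Y)).sub_mem h5 (hle p)
      rwa [sub_sub_cancel] at this
  refine ⟨ind S C hS invB ⟨s, hst⟩, ⟨_, rfl⟩, fun y => ?_⟩
  rw [ind_apply]
  have := (Submodule.mem_bot K).1 (hle (0, y)).2
  rw [Prod.snd_sub, sub_eq_zero] at this
  exact this.symm

include invB in
/-- **core of case (II)** -/
theorem Int5.core (hAC : A ≤ C) [Nontrivial X] {k : Equiv.Perm (X × Y)} (h : Int5 S hS A invA G x φ k)
    (hG : ∀ x : X, ∃ a ∈ A, ∃ b ∈ A, x = a + G 0 b)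
    (rig : ∀ k ∈ Semi K X, (∀ v ∈ A, k v ∈ A) → (∀ i, ∀ v ∈ A, (G i).symm (k (G i v)) ∈ A) →
      ∃ c : Kˣ, ∀ v, k v = (c : K) • v) :
    ∃ (c : Kˣ) (κ : Equiv.Perm Y) (θ : Y → X), κ ∈ (ind S C hS invB).range ∧
      (∀ i, ((x i).toEquiv : Equiv.Perm Y) * κ * ((x i).toEquiv : Equiv.Perm Y)⁻¹ ∈ (ind S C hS invB).range) ∧
      (∀ a b, k (a, b) = ((c : K) • a + θ b, κ b)) ∧ (∀ b, θ b ∈ C) ∧
      (∀ i b, (G i).symm (θ b + φ i ((c : K) • b - κ b)) ∈ C) ∧
      (∀ (a : K) b, κ (a • b) = a • κ b) := by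
  obtain ⟨c, hc⟩ := h.scalar hG rig
  obtain ⟨k0, σ, ks⟩ := id h.1.1
  have hσ : ∀ a : K, σ a = a := by
    intro a
    obtain ⟨v, hv⟩ := exists_ne (0 : X)
    have h1 := ks a (v, 0)
    rw [Prod.smul_mk, smul_zero, hc, hc, Prod.smul_mk, smul_zero] at h1
    have h2 := congrArg Prod.fst h1
    change (c : K) • a • v = σ a • (c : K) • v at h2
    rw [smul_comm, ← sub_eq_zero, ← sub_smul] at h2
    have h3 : (c : K) • v ≠ 0 := smul_ne_zero c.ne_zero hv
    rcases smul_eq_zero.1 h2 with h4 | h4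
    · exact (sub_eq_zero.1 h4).symm
    · exact absurd h4 h3
  obtain ⟨κ, hκ, hκ'⟩ := exists_ind (invB := invB) hAC h.1 hc
  have hk : ∀ a b, k (a, b) = ((c : K) • a + (k (0, b)).1, κ b) := by
    intro a b
    have h1 : k (a, b) = k (a, 0) + k (0, b) := by
      rw [← k0, Prod.mk_add_mk, add_zero, zero_add]
    rw [h1, hc]
    refine Prod.ext rfl ?_
    rw [Prod.snd_add, zero_add, hκ']
  refine ⟨c, κ, fun b => (k (0, b)).1, hκ, fun i => ?_, hk, fun b => ?_, fun i b => ?_, fun a b => ?_⟩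
  · have hci : ∀ v, (((zz (G i) (x i) (φ i)).toEquiv : Equiv.Perm (X × Y)) * k *
        ((zz (G i) (x i) (φ i)).toEquiv : Equiv.Perm (X × Y))⁻¹) (v, 0) = ((c : K) • v, 0) := by
      intro v
      rw [Equiv.Perm.mul_apply, Equiv.Perm.mul_apply, zz_inv, map_zero, map_zero, add_zero, hc, zz_apply,
        map_zero, map_zero, sub_zero, map_smul, LinearEquiv.symm_apply_apply]
    obtain ⟨κ', hκ1, hκ2⟩ := exists_ind (invB := invB) hAC (h.2 i) hci
    have : ((x i).toEquiv : Equiv.Perm Y) * κ * ((x i).toEquiv : Equiv.Perm Y)⁻¹ = κ' := by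
      apply Equiv.ext
      intro y
      rw [hκ2, Equiv.Perm.mul_apply (_ * _), Equiv.Perm.mul_apply (_ * _), Equiv.Perm.mul_apply,
        Equiv.Perm.mul_apply, zz_inv, hk, zz_apply]
      rfl
    rw [this]
    exact hκ1
  · exact (hat_mapB (invB := invB) hAC h.1 (0, b) ⟨C.zero_mem, Submodule.mem_top⟩).1
  · have h1 := (hat_mapB (invB := invB) hAC (h.2 i) (0, x i b) ⟨C.zero_mem, Submodule.mem_top⟩).1
    rw [Equiv.Perm.mul_apply, Equiv.Perm.mul_apply, zz_inv, LinearEquiv.symm_apply_apply, map_zero, zero_add, hk,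
      zz_apply] at h1
    have h2 : (c : K) • φ i b + (k (0, b)).1 - φ i (κ b) = (k (0, b)).1 + φ i ((c : K) • b - κ b) := by
      rw [map_sub, map_smul]
      abel
    rw [h2] at h1
    exact h1
  · have h1 := ks a (0, b)
    rw [hσ, Prod.smul_mk, smul_zero] at h1
    have h2 := congrArg Prod.snd h1
    rw [Prod.smul_snd, ← hκ', ← hκ'] at h2
    exact h2

end core

end Cfsg.Agent.H754.FC
end

-- part: H754/FC/Two
section
/-!
# S5764, StmtRed, case (II): `c ≥ 1`, `c ≤ a ≤ 2 c` (helper754)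
-/

set_option autoImplicit false

namespace Cfsg.Agent.H754.FC

open Cfsg.Agent.H198.FC Module

universe u v

section prod

set_option linter.unusedSectionVars false

variable {K : Type u} [Field K] [Finite K] {X Y : Type v} [AddCommGroup X] [Module K X] [AddCommGroup Y] [Module K Y]
  [Module.Finite K X] [Module.Finite K Y]

/-- a linear map into a complement of `D` -/
theorem exists_phi_inj (D : Submodule K X) (h : finrank K D + finrank K Y ≤ finrank K X) :
    ∃ φ : Y →ₗ[K] X, ∀ y, φ y ∈ D → y = 0 := by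
  obtain ⟨F, hF⟩ := D.exists_isCompl
  have h1 := Submodule.finrank_add_eq_of_isCompl hF
  obtain ⟨f, hf⟩ : ∃ f : Y →ₗ[K] ↥F, Function.Injective f := by
    obtain ⟨E, -, -, hE⟩ := exists_between (bot_le : (⊥ : Submodule K ↥F) ≤ ⊤) (finrank K Y) (by
      rw [finrank_bot, finrank_top]; omega)
    rw [finrank_bot, zero_add] at hE
    let e : Y ≃ₗ[K] E := LinearEquiv.ofFinrankEq _ _ hE.symm
    exact ⟨E.subtype.comp (e : Y →ₗ[K] E), fun a b hab => e.injective (Subtype.ext hab)⟩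
  refine ⟨F.subtype.comp f, fun y hy => ?_⟩
  have h2 := Submodule.disjoint_def.1 hF.disjoint _ hy (f y).2
  have h3 : f y = 0 := Subtype.ext h2
  exact hf (h3.trans (map_zero f).symm)

variable {S : Subgroup (Equiv.Perm (X × Y))} (hS : S ≤ Semi K (X × Y)) (hh : ∀ a, hm K (X × Y) a ∈ S)
  (hsol : Group.IsSolvable S) {A C : Submodule K X} (hAC : A ≤ C)
  (invA : ∀ g ∈ S, ∀ v ∈ A.prod (⊥ : Submodule K Y), g v ∈ A.prod (⊥ : Submodule K Y))
  (invB : ∀ g ∈ S, ∀ v ∈ C.prod (⊤ : Submodule K Y), g v ∈ C.prod (⊤ : Submodule K Y))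

theorem eq_hm_of {k : Equiv.Perm (X × Y)} {c : Kˣ} {κ : Equiv.Perm Y} {θ : Y → X}
    (hk : ∀ a b, k (a, b) = ((c : K) • a + θ b, κ b)) (hθ : ∀ b, θ b = 0) (hκ : ∀ b, κ b = (c : K) • b) :
    ∃ c : Kˣ, k = hm K (X × Y) c := by
  refine ⟨c, Equiv.ext ?_⟩
  rintro ⟨a, b⟩
  rw [hk, hθ, add_zero, hκ, hm_apply]
  rfl

include invB hAC hh hsol in
theorem two_prod (a ε : ℕ) (ha : finrank K A = a) (ha1 : 1 ≤ a) (hX : finrank K X = 2 * a)
    (hC : finrank K C = a + ε) (hε : 2 * ε ≤ a)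
    (hd : finrank K Y + ε ≤ a ∨ ThmV.{u, v} K (finrank K Y) ∨ (a = 1 ∧ finrank K Y ≤ 2)) :
    ∃ z : Fin 4 → ((X × Y) ≃ₗ[K] (X × Y)), ∀ k ∈ hat S (A.prod (⊥ : Submodule K Y)) hS invA,
      (∀ i, ((z i).toEquiv : Equiv.Perm (X × Y)) * k * ((z i).toEquiv : Equiv.Perm (X × Y))⁻¹ ∈
        hat S (A.prod (⊥ : Submodule K Y)) hS invA) → ∃ c : Kˣ, k = hm K (X × Y) c := by
  obtain ⟨G, hG⟩ := exists_cfg A C hAC a ε ha ha1 hX hC hε
  have hnt : Nontrivial X := Module.nontrivial_of_finrank_pos (R := K) (by omega)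
  have hmap : ∀ i x, (G i).symm x ∈ C ↔ x ∈ C.map ((G i : X ≃ₗ[K] X) : X →ₗ[K] X) := by
    intro i x
    constructor
    · intro h
      exact ⟨_, h, (G i).apply_symm_apply x⟩
    · rintro ⟨y, hy, rfl⟩
      change (G i).symm (G i y) ∈ C
      rwa [LinearEquiv.symm_apply_apply]
  have hfr : ∀ i, finrank K (C.map ((G i : X ≃ₗ[K] X) : X →ₗ[K] X)) = a + ε := by
    intro i
    rw [LinearEquiv.finrank_map_eq, hC]
  have hex : ∀ i, ∃ e : X, (G i).symm e ∉ C := by
    intro i
    by_contra hcon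
    push Not at hcon
    have : C.map ((G i : X ≃ₗ[K] X) : X →ₗ[K] X) = ⊤ := by
      rw [eq_top_iff]
      intro x _
      exact (hmap i x).1 (hcon x)
    have h1 := hfr i
    rw [this, finrank_top] at h1
    omega
  rcases hd with hd | hd | ⟨rfl, hd⟩
  · obtain ⟨φ, hφ⟩ := exists_phi_inj (Y := Y) (C.map ((G 3 : X ≃ₗ[K] X) : X →ₗ[K] X)) (by rw [hfr]; omega)
    refine ⟨fun i => zz (G i) (LinearEquiv.refl K Y) (![0, 0, 0, φ] i), fun k hk hki => ?_⟩
    have h5 : Int5 S hS A invA G (fun _ => LinearEquiv.refl K Y) ![0, 0, 0, φ] k := ⟨hk, hki⟩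
    obtain ⟨c, κ, θ, -, -, hk, hθ, hθ', -⟩ := h5.core (invB := invB) hAC hG.span hG.rig
    have hθ0 : ∀ b, θ b = 0 := by
      intro b
      refine hG.int (θ b) (hθ b) ?_ ?_ ?_
      · have := hθ' 0 b
        rwa [show (![0, 0, 0, φ] : Fin 4 → (Y →ₗ[K] X)) 0 = 0 from rfl, LinearMap.zero_apply, add_zero] at this
      · have := hθ' 1 b
        rwa [show (![0, 0, 0, φ] : Fin 4 → (Y →ₗ[K] X)) 1 = 0 from rfl, LinearMap.zero_apply, add_zero] at this
      · have := hθ' 2 b
        rwa [show (![0, 0, 0, φ] : Fin 4 → (Y →ₗ[K] X)) 2 = 0 from rfl, LinearMap.zero_apply, add_zero] at this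
    refine eq_hm_of hk hθ0 fun b => ?_
    have := hθ' 3 b
    rw [show (![0, 0, 0, φ] : Fin 4 → (Y →ₗ[K] X)) 3 = φ from rfl, hθ0, zero_add, hmap] at this
    exact (sub_eq_zero.1 (hφ _ this)).symm
  · by_cases hY : finrank K Y = 0
    · -- trivial case `Y = 0`
      have : Subsingleton Y := Module.finrank_zero_iff.1 hY
      refine ⟨fun i => zz (G i) (LinearEquiv.refl K Y) 0, fun k hk hki => ?_⟩
      have h5 : Int5 S hS A invA G (fun _ => LinearEquiv.refl K Y) (fun _ => 0) k := ⟨hk, hki⟩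
      obtain ⟨c, κ, θ, -, -, hk, hθ, hθ', -⟩ := h5.core (invB := invB) hAC hG.span hG.rig
      refine eq_hm_of hk (fun b => ?_) fun b => Subsingleton.elim _ _
      refine hG.int (θ b) (hθ b) ?_ ?_ ?_
      · have := hθ' 0 b
        rwa [LinearMap.zero_apply, add_zero] at this
      · have := hθ' 1 b
        rwa [LinearMap.zero_apply, add_zero] at this
      · have := hθ' 2 b
        rwa [LinearMap.zero_apply, add_zero] at this
    · obtain ⟨x, -, hx⟩ := hd Y rfl (ind S C hS invB).range (ind_range_le hS invB) (hm_mem_ind hS invB hh)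
        (ind_solvable hS invB hsol)
      have hntY : Nontrivial Y := Module.nontrivial_of_finrank_pos (R := K) (by omega)
      obtain ⟨y₀, hy₀⟩ := exists_ne (0 : Y)
      obtain ⟨f, hf⟩ := Module.Projective.exists_dual_eq_one K hy₀
      obtain ⟨e, he⟩ := hex 3
      let φ : Y →ₗ[K] X := f.smulRight e
      refine ⟨fun i => zz (G i) (x i) (![0, 0, 0, φ] i), fun k hk hki => ?_⟩
      have h5 : Int5 S hS A invA G x ![0, 0, 0, φ] k := ⟨hk, hki⟩
      obtain ⟨c, κ, θ, hκ, hκi, hk, hθ, hθ', -⟩ := h5.core (invB := invB) hAC hG.span hG.rig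
      have hθ0 : ∀ b, θ b = 0 := by
        intro b
        refine hG.int (θ b) (hθ b) ?_ ?_ ?_
        · have := hθ' 0 b
          rwa [show (![0, 0, 0, φ] : Fin 4 → (Y →ₗ[K] X)) 0 = 0 from rfl, LinearMap.zero_apply, add_zero] at this
        · have := hθ' 1 b
          rwa [show (![0, 0, 0, φ] : Fin 4 → (Y →ₗ[K] X)) 1 = 0 from rfl, LinearMap.zero_apply, add_zero] at this
        · have := hθ' 2 b
          rwa [show (![0, 0, 0, φ] : Fin 4 → (Y →ₗ[K] X)) 2 = 0 from rfl, LinearMap.zero_apply, add_zero] at this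
      obtain ⟨μ, rfl⟩ := hx κ hκ hκi
      have h6 := hθ' 3 y₀
      rw [show (![0, 0, 0, φ] : Fin 4 → (Y →ₗ[K] X)) 3 = φ from rfl, hθ0, zero_add, hm_apply, ← sub_smul, map_smul,
        map_smul] at h6
      have h7 : φ y₀ = e := by
        change f y₀ • e = e
        rw [hf, one_smul]
      rw [h7] at h6
      have h8 : (c : K) = μ := by
        by_contra hcon
        exact he ((Submodule.smul_mem_iff _ (sub_ne_zero.2 hcon)).1 h6)
      refine eq_hm_of hk hθ0 fun b => ?_
      rw [hm_apply, h8]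
  · have hε0 : ε = 0 := by omega
    subst hε0
    have hAC' : A = C := Submodule.eq_of_le_of_finrank_eq hAC (by rw [ha, hC])
    subst hAC'
    -- two functionals
    obtain ⟨f₁, f₂, hf⟩ : ∃ f₁ f₂ : Dual K Y, ∀ y, f₁ y = 0 → f₂ y = 0 → y = 0 := by
      let b := Module.finBasis K Y
      refine ⟨if h : 0 < finrank K Y then b.coord ⟨0, h⟩ else 0, if h : 1 < finrank K Y then b.coord ⟨1, h⟩ else 0,
        fun y h1 h2 => ?_⟩
      rw [← b.forall_coord_eq_zero_iff]
      rintro ⟨i, hi⟩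
      obtain rfl | rfl : i = 0 ∨ i = 1 := by omega
      · rwa [dif_pos hi] at h1
      · rwa [dif_pos hi] at h2
    obtain ⟨e₁, he₁⟩ := hex 1
    obtain ⟨e₂, he₂⟩ := hex 2
    refine ⟨fun i => zz (G i) (LinearEquiv.refl K Y) (![0, f₁.smulRight e₁, f₂.smulRight e₂, 0] i),
      fun k hk hki => ?_⟩
    have h5 : Int5 S hS A invA G (fun _ => LinearEquiv.refl K Y) ![0, f₁.smulRight e₁, f₂.smulRight e₂, 0] k :=
      ⟨hk, hki⟩
    obtain ⟨c, κ, θ, -, -, hk, hθ, hθ', -⟩ := h5.core (invB := invB) hAC hG.span hG.rig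
    have hθ0 : ∀ b, θ b = 0 := by
      intro b
      refine hG.dis (θ b) (hθ b) ?_
      have := hθ' 0 b
      rwa [show (![0, f₁.smulRight e₁, f₂.smulRight e₂, 0] : Fin 4 → (Y →ₗ[K] X)) 0 = 0 from rfl,
        LinearMap.zero_apply, add_zero] at this
    refine eq_hm_of hk hθ0 fun b => ?_
    have h1 := hθ' 1 b
    have h2 := hθ' 2 b
    rw [show (![0, f₁.smulRight e₁, f₂.smulRight e₂, 0] : Fin 4 → (Y →ₗ[K] X)) 1 = f₁.smulRight e₁ from rfl,
      hθ0, zero_add, LinearMap.smulRight_apply, map_smul] at h1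
    rw [show (![0, f₁.smulRight e₁, f₂.smulRight e₂, 0] : Fin 4 → (Y →ₗ[K] X)) 2 = f₂.smulRight e₂ from rfl,
      hθ0, zero_add, LinearMap.smulRight_apply, map_smul] at h2
    have h3 : f₁ ((c : K) • b - κ b) = 0 := by
      by_contra hcon
      exact he₁ ((Submodule.smul_mem_iff _ hcon).1 h1)
    have h4 : f₂ ((c : K) • b - κ b) = 0 := by
      by_contra hcon
      exact he₂ ((Submodule.smul_mem_iff _ hcon).1 h2)
    exact (sub_eq_zero.1 (hf _ h3 h4)).symm

end prod

end Cfsg.Agent.H754.FC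
end

-- part: H754/FC/Trans
section
/-!
# S5764, StmtRed: transport, and case (II) (helper754)
-/

set_option autoImplicit false

namespace Cfsg.Agent.H754.FC

open Cfsg.Agent.H198.FC Module

universe u v v'

section

variable {K : Type u} [Field K] {V : Type v} [AddCommGroup V] [Module K V] {V' : Type v'} [AddCommGroup V']
  [Module K V']

/-- transport of permutations -/
def tr (e : V ≃ₗ[K] V') : Equiv.Perm V →* Equiv.Perm V' := (Equiv.permCongrHom e.toEquiv).toMonoidHom

theorem tr_apply (e : V ≃ₗ[K] V') (g : Equiv.Perm V) (v : V') : tr e g v = e (g (e.symm v)) := rfl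

theorem tr_inj (e : V ≃ₗ[K] V') : Function.Injective (tr e) := (Equiv.permCongrHom e.toEquiv).injective

theorem tr_mem_semi (e : V ≃ₗ[K] V') {g : Equiv.Perm V} (hg : g ∈ Semi K V) : tr e g ∈ Semi K V' := by
  obtain ⟨h0, σ, hs⟩ := hg
  exact ⟨fun v w => by rw [tr_apply, tr_apply, tr_apply, map_add, h0, map_add],
    σ, fun a v => by rw [tr_apply, tr_apply, map_smul, hs, map_smul]⟩

theorem tr_hm (e : V ≃ₗ[K] V') (a : Kˣ) : tr e (hm K V a) = hm K V' a := by
  apply Equiv.ext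
  intro v
  rw [tr_apply, hm_apply, hm_apply, map_smul, LinearEquiv.apply_symm_apply]

theorem tr_lin (e : V ≃ₗ[K] V') (x : V ≃ₗ[K] V) :
    tr e (x.toEquiv : Equiv.Perm V) = ((e.symm.trans (x.trans e)).toEquiv : Equiv.Perm V') := rfl

/-- transport of `FiveV` -/
theorem fiveV_congr (e : V ≃ₗ[K] V') {S : Subgroup (Equiv.Perm V)} (h : FiveV K V' (S.map (tr e))) :
    FiveV K V S := by
  obtain ⟨x, hx, hS⟩ := h
  refine ⟨fun i => e.trans ((x i).trans e.symm), fun i => ?_, fun g hg hi => ?_⟩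
  · have h1 : ((e.trans ((x i).trans e.symm) : V ≃ₗ[K] V) : V →ₗ[K] V) =
        (e.symm : V' →ₗ[K] V) ∘ₗ ((x i : V' ≃ₗ[K] V') : V' →ₗ[K] V') ∘ₗ (e : V →ₗ[K] V') := rfl
    rw [h1]
    have := LinearMap.det_conj ((x i : V' ≃ₗ[K] V') : V' →ₗ[K] V') e.symm
    rw [LinearEquiv.symm_symm] at this
    rw [this, hx i]
  · obtain ⟨a, ha⟩ := hS (tr e g) ⟨g, hg, rfl⟩ fun i => by
      refine ⟨_, hi i, ?_⟩
      rw [map_mul, map_mul, map_inv, tr_lin]
      have : (e.symm.trans ((e.trans ((x i).trans e.symm)).trans e)) = x i := by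
        apply LinearEquiv.ext
        intro v
        simp
      rw [this]
    exact ⟨a, tr_inj e (by rw [ha, tr_hm])⟩

theorem solvable_map (e : V ≃ₗ[K] V') {S : Subgroup (Equiv.Perm V)} (h : Group.IsSolvable S) :
    Group.IsSolvable (S.map (tr e)) :=
  Group.isSolvable_of_surjective (f := (tr e).subgroupMap S) ((tr e).subgroupMap_surjective S)

/-- transport of `ThmV` between universes -/
theorem thmV_univ (m : ℕ) (V₁ : Type v) [AddCommGroup V₁] [Module K V₁] [Module.Finite K V₁] (h₁ : finrank K V₁ = m)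
    (h : ThmV.{u, v} K m) : ThmV.{u, v'} K m := by
  intro V₂ _ _ _ h₂ S hS hh hsol
  let e : V₂ ≃ₗ[K] V₁ := LinearEquiv.ofFinrankEq _ _ (by rw [h₁, h₂])
  refine fiveV_congr e (h V₁ h₁ _ ?_ (fun a => ⟨hm K V₂ a, hh a, tr_hm e a⟩) (solvable_map e hsol))
  rintro _ ⟨g, hg, rfl⟩
  exact tr_mem_semi e (hS hg)

/-- transport of `Sec` -/
theorem Sec.map {S : Subgroup (Equiv.Perm V)} {A B : Submodule K V} {w : Fin 3 → V} (h : Sec S A B w)
    (e : V ≃ₗ[K] V') {A' B' : Submodule K V'} (hA : ∀ v, v ∈ A ↔ e v ∈ A') (hB : ∀ v, v ∈ B ↔ e v ∈ B') :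
    Sec (S.map (tr e)) A' B' (fun j => e (w j)) where
  semi := by
    rintro _ ⟨g, hg, rfl⟩
    exact tr_mem_semi e (h.semi hg)
  hom a := ⟨_, h.hom a, tr_hm e a⟩
  le := by
    intro v hv
    obtain ⟨u, rfl⟩ := e.surjective v
    exact (hB u).1 (h.le ((hA u).2 hv))
  invA := by
    rintro _ ⟨g, hg, rfl⟩ v hv
    obtain ⟨u, rfl⟩ := e.surjective v
    rw [tr_apply, LinearEquiv.symm_apply_apply]
    exact (hA _).1 (h.invA g hg u ((hA u).2 hv))
  invB := by
    rintro _ ⟨g, hg, rfl⟩ v hv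
    obtain ⟨u, rfl⟩ := e.surjective v
    rw [tr_apply, LinearEquiv.symm_apply_apply]
    exact (hB _).1 (h.invB g hg u ((hB u).2 hv))
  mem j := (hB _).1 (h.mem j)
  base := by
    rintro _ ⟨g, hg, rfl⟩ hw v hv
    obtain ⟨u, rfl⟩ := e.surjective v
    rw [tr_apply, LinearEquiv.symm_apply_apply, ← map_sub, ← hA]
    refine h.base g hg (fun j => ?_) u ((hB u).2 hv)
    have := hw j
    rwa [tr_apply, LinearEquiv.symm_apply_apply, ← map_sub, ← hA] at this

/-- **determinants are free**, version with `hat` -/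
theorem fiveV_of_hat [Module.Finite K V] {S : Subgroup (Equiv.Perm V)} {A B : Submodule K V} {w : Fin 3 → V}
    (h : Sec S A B w) (hA : A ≠ ⊥)
    (H : ∃ x : Fin 4 → (V ≃ₗ[K] V), ∀ g ∈ hat S A h.semi h.invA,
      (∀ i, ((x i).toEquiv : Equiv.Perm V) * g * ((x i).toEquiv : Equiv.Perm V)⁻¹ ∈ hat S A h.semi h.invA) →
        ∃ a : Kˣ, g = hm K V a) : FiveV K V S := by
  obtain ⟨x, hx⟩ := H
  have hd : ∀ i, IsUnit (LinearMap.det ((x i : V ≃ₗ[K] V) : V →ₗ[K] V)) := fun i => (x i).isUnit_det'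
  choose e he hee using fun i => exists_dilation (V := V) hA ((hd i).unit⁻¹)
  refine FiveV.mono (le_hat h.semi h.invA) ⟨fun i => (x i).trans (e i), fun i => ?_, fun g hg hi => ?_⟩
  · rw [LinearEquiv.coe_trans, LinearMap.det_comp, he]
    exact (hd i).val_inv_mul
  · refine hx g hg fun i => ?_
    have he' : ((e i).toEquiv : Equiv.Perm V) ∈ H754.FC.hat S A h.semi h.invA :=
      mem_hat_of h.semi h.invA (linear_mem_semi (e i)) (hee i)
    have h1 := mul_mem (mul_mem (inv_mem he') (hi i)) he'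
    have h2 : ((e i).toEquiv : Equiv.Perm V)⁻¹ * ((((x i).trans (e i)).toEquiv : Equiv.Perm V) * g *
        (((x i).trans (e i)).toEquiv : Equiv.Perm V)⁻¹) * ((e i).toEquiv : Equiv.Perm V) =
        ((x i).toEquiv : Equiv.Perm V) * g * ((x i).toEquiv : Equiv.Perm V)⁻¹ := by
      have h3 : (((x i).trans (e i)).toEquiv : Equiv.Perm V) =
          ((e i).toEquiv : Equiv.Perm V) * ((x i).toEquiv : Equiv.Perm V) := rfl
      rw [h3]
      group
    rwa [h2] at h1

end

/-- **case (II)**, except `dim V = 3 dim A` -/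
theorem red_two' {K : Type u} [Field K] [Finite K] {V : Type v} [AddCommGroup V] [Module K V] [Module.Finite K V]
    {S : Subgroup (Equiv.Perm V)} {A B : Submodule K V} {w : Fin 3 → V} (h : Sec S A B w) (hsol : Group.IsSolvable S)
    (c : ℕ) (hc : finrank K B + c = finrank K V) (hn : 2 * finrank K A < finrank K V) (h1 : 1 ≤ c)
    (h2 : c ≤ finrank K A) (h3 : finrank K A ≤ 2 * c) (h6 : finrank K V ≠ 3 * finrank K A)
    (IH : ∀ m, 2 ≤ m → m < finrank K V → (m = 2 → 4 ≤ Nat.card K) → ThmV.{u, v} K m) : FiveV K V S := by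
  set a := finrank K A with ha
  obtain ⟨D, hD⟩ := B.exists_isCompl
  have hD1 := Submodule.finrank_add_eq_of_isCompl hD
  have hAD : Disjoint A D := hD.disjoint.mono_left h.le
  have hAD1 : finrank K ↥(A ⊔ D) = a + c := by
    have := Submodule.finrank_sup_add_finrank_inf_eq A D
    rw [hAD.eq_bot, finrank_bot] at this
    omega
  obtain ⟨V₀, hV1, -, hV2⟩ := exists_between (le_top : A ⊔ D ≤ ⊤) (a - c) (by
    rw [hAD1, finrank_top]; omega)
  have hV₀ : finrank K V₀ = 2 * a := by omega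
  have hAV : A ≤ V₀ := le_sup_left.trans hV1
  have hVB : V₀ ⊔ B = ⊤ := by
    rw [eq_top_iff, ← hD.sup_eq_top, sup_comm]
    exact sup_le_sup_right (le_sup_right.trans hV1) B
  set C := V₀ ⊓ B with hCdef
  have hC1 : finrank K C = a + (a - c) := by
    have := Submodule.finrank_sup_add_finrank_inf_eq V₀ B
    rw [hVB, finrank_top, ← hCdef] at this
    omega
  obtain ⟨D', hD'⟩ := C.exists_isCompl
  set V' := B ⊓ D' with hV'
  have hCV' : C ⊔ V' = B := by
    have : C ⊔ B ⊓ D' = B ⊓ (C ⊔ D') := by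
      rw [inf_comm B D', ← sup_inf_assoc_of_le D' (inf_le_right : C ≤ B), inf_comm]
    rw [hV', this, hD'.sup_eq_top, inf_top_eq]
  have hcompl : IsCompl V₀ V' := by
    refine ⟨?_, ?_⟩
    · rw [disjoint_iff, hV', ← inf_assoc]
      exact hD'.disjoint.eq_bot
    · rw [codisjoint_iff, eq_top_iff, ← hVB]
      refine sup_le le_sup_left ?_
      rw [← hCV']
      exact sup_le_sup_right inf_le_left V'
  have hV'1 := Submodule.finrank_add_eq_of_isCompl hcompl
  let e : V ≃ₗ[K] (↥V₀ × ↥V') := (Submodule.prodEquivOfIsCompl V₀ V' hcompl).symm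
  have he : ∀ x y, e ((x : ↥V₀) + (y : ↥V') : V) = (x, y) := by
    intro x y
    rw [LinearEquiv.symm_apply_eq, Submodule.coe_prodEquivOfIsCompl']
  have hdec : ∀ v : V, ∃ (x : ↥V₀) (y : ↥V'), v = (x : V) + y := by
    intro v
    obtain ⟨⟨x, y⟩, rfl⟩ := (Submodule.prodEquivOfIsCompl V₀ V' hcompl).surjective v
    exact ⟨x, y, Submodule.coe_prodEquivOfIsCompl' _ _ _ _⟩
  have hA' : ∀ v, v ∈ A ↔ e v ∈ (A.submoduleOf V₀).prod (⊥ : Submodule K ↥V') := by
    intro v
    obtain ⟨x, y, rfl⟩ := hdec v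
    rw [he, Submodule.mem_prod, Submodule.mem_bot]
    constructor
    · intro hv
      have h5 : (y : V) = 0 := by
        refine Submodule.disjoint_def.1 hcompl.disjoint _ ?_ y.2
        have := V₀.sub_mem (hAV hv) x.2
        rwa [add_sub_cancel_left] at this
      refine ⟨?_, Subtype.ext h5⟩
      rw [h5, add_zero] at hv
      exact hv
    · rintro ⟨hx, hy⟩
      change (x : V) ∈ A at hx
      rw [show y = 0 from hy]
      change (x : V) + 0 ∈ A
      rwa [add_zero]
  have hB' : ∀ v, v ∈ B ↔ e v ∈ (C.submoduleOf V₀).prod (⊤ : Submodule K ↥V') := by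
    intro v
    obtain ⟨x, y, rfl⟩ := hdec v
    rw [he, Submodule.mem_prod]
    have hyB : (y : V) ∈ B := (inf_le_left : B ⊓ D' ≤ B) y.2
    rw [Submodule.add_mem_iff_left _ hyB]
    constructor
    · intro hx
      exact ⟨⟨x.2, hx⟩, Submodule.mem_top⟩
    · rintro ⟨hx, -⟩
      exact hx.2
  have hsec := h.map e hA' hB'
  refine fiveV_congr e (fiveV_of_hat hsec ?_ ?_)
  · intro hbot
    have : A = ⊥ := by
      rw [eq_bot_iff]
      intro v hv
      have := (hA' v).1 hv
      rw [hbot, Submodule.mem_bot, LinearEquiv.map_eq_zero_iff] at this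
      exact (Submodule.mem_bot K).2 this
    rw [this, finrank_bot] at ha
    omega
  · have f1 : finrank K (A.submoduleOf V₀) = a := (Submodule.submoduleOfEquivOfLe hAV).finrank_eq
    have f2 : finrank K (C.submoduleOf V₀) = a + (a - c) := by
      rw [(Submodule.submoduleOfEquivOfLe (inf_le_left : C ≤ V₀)).finrank_eq, hC1]
    have hAC : A.submoduleOf V₀ ≤ C.submoduleOf V₀ := fun x hx => ⟨x.2, h.le hx⟩
    refine two_prod hsec.semi hsec.hom (solvable_map e hsol) hAC hsec.invA hsec.invB a (a - c) f1 (by omega) hV₀ f2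
      (by omega) ?_
    by_cases hd : finrank K ↥V' + (a - c) ≤ a
    · exact Or.inl hd
    · by_cases hd3 : 3 ≤ finrank K ↥V'
      · exact Or.inr (Or.inl (IH _ (by omega) (by omega) (by omega)))
      · exact Or.inr (Or.inr ⟨by omega, by omega⟩)

end Cfsg.Agent.H754.FC
end

-- part: H754/FC/Irr
section
/-!
# S5764, StmtRed: existence of 3-bases on irreducible sections (helper754)
-/

set_option autoImplicit false

namespace Cfsg.Agent.H754.FC

open Cfsg.Agent.H198.FC Module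

universe u v

variable {K : Type u} [Field K] {V : Type v} [AddCommGroup V] [Module K V]
  {S : Subgroup (Equiv.Perm V)} {A B : Submodule K V}

/-- `A` as a subgroup of `B` -/
abbrev NN (A B : Submodule K V) : AddSubgroup ↥B := (A.submoduleOf B).toAddSubgroup

theorem mem_NN {A B : Submodule K V} {v : ↥B} : v ∈ NN A B ↔ (v : V) ∈ A := Iff.rfl

/-- restriction to `B` -/
def rB (hS : S ≤ Semi K V) (invB : ∀ g ∈ S, ∀ v ∈ B, g v ∈ B) (g : S) : ↥B →+ ↥B where
  toFun v := ⟨(g : Equiv.Perm V) v, invB g g.2 v v.2⟩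
  map_zero' := Subtype.ext (semi_zero (hS g.2))
  map_add' v w := Subtype.ext (semi_add (hS g.2) v w)

/-- the action on `B / A` -/
def rQ (hS : S ≤ Semi K V) (invA : ∀ g ∈ S, ∀ v ∈ A, g v ∈ A) (invB : ∀ g ∈ S, ∀ v ∈ B, g v ∈ B) (g : S) :
    (↥B ⧸ NN A B) →+ (↥B ⧸ NN A B) :=
  QuotientAddGroup.map _ _ (rB hS invB g) (fun v hv => invA g g.2 v hv)

theorem rQ_mk (hS : S ≤ Semi K V) (invA : ∀ g ∈ S, ∀ v ∈ A, g v ∈ A) (invB : ∀ g ∈ S, ∀ v ∈ B, g v ∈ B) (g : S)
    (v : ↥B) : rQ hS invA invB g (QuotientAddGroup.mk v) = QuotientAddGroup.mk (rB hS invB g v) := rfl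

/-- the action on `B / A` -/
def rho (hS : S ≤ Semi K V) (invA : ∀ g ∈ S, ∀ v ∈ A, g v ∈ A) (invB : ∀ g ∈ S, ∀ v ∈ B, g v ∈ B) :
    S →* Equiv.Perm (↥B ⧸ NN A B) where
  toFun g :=
    { toFun := rQ hS invA invB g
      invFun := rQ hS invA invB g⁻¹
      left_inv := fun x => by
        obtain ⟨v, rfl⟩ := QuotientAddGroup.mk_surjective x
        rw [rQ_mk, rQ_mk]
        congr 1
        exact Subtype.ext (inv_app _ _)
      right_inv := fun x => by
        obtain ⟨v, rfl⟩ := QuotientAddGroup.mk_surjective x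
        rw [rQ_mk, rQ_mk]
        congr 1
        exact Subtype.ext (app_inv _ _) }
  map_one' := by
    apply Equiv.ext
    intro x
    obtain ⟨v, rfl⟩ := QuotientAddGroup.mk_surjective x
    rfl
  map_mul' g h := by
    apply Equiv.ext
    intro x
    obtain ⟨v, rfl⟩ := QuotientAddGroup.mk_surjective x
    rfl

/-- the image acts by additive maps -/
@[reducible] def rhoAct (hS : S ≤ Semi K V) (invA : ∀ g ∈ S, ∀ v ∈ A, g v ∈ A) (invB : ∀ g ∈ S, ∀ v ∈ B, g v ∈ B) :
    DistribMulAction (rho hS invA invB).range (↥B ⧸ NN A B) where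
  smul a x := (a : Equiv.Perm (↥B ⧸ NN A B)) x
  one_smul _ := rfl
  mul_smul _ _ _ := rfl
  smul_zero := by
    rintro ⟨_, g, rfl⟩
    exact map_zero (rQ hS invA invB g)
  smul_add := by
    rintro ⟨_, g, rfl⟩ x y
    exact map_add (rQ hS invA invB g) x y

/-- **3-base of an irreducible section** -/
theorem exists_sec [Finite K] [Module.Finite K V] (hS : S ≤ Semi K V) (hh : ∀ a, hm K V a ∈ S)
    (hsol : Group.IsSolvable S) (hAB : A ≤ B) (invA : ∀ g ∈ S, ∀ v ∈ A, g v ∈ A) (invB : ∀ g ∈ S, ∀ v ∈ B, g v ∈ B)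
    (irr : ∀ C : Submodule K V, A ≤ C → C ≤ B → (∀ g ∈ S, ∀ v ∈ C, g v ∈ C) → C = A ∨ C = B) :
    ∃ w : Fin 3 → V, Sec S A B w := by
  classical
  have : Finite V := Module.finite_of_finite K
  have : Finite (Equiv.Perm V) := inferInstance
  set ρ := rho hS invA invB with hρ
  have hsol' : Group.IsSolvable ρ.range :=
    Group.isSolvable_of_surjective (f := ρ.rangeRestrict) ρ.rangeRestrict_surjective
  let _ : DistribMulAction ρ.range (↥B ⧸ NN A B) := rhoAct hS invA invB
  have _ : FaithfulSMul ρ.range (↥B ⧸ NN A B) := ⟨fun {a b} h => Subtype.ext (Equiv.ext h)⟩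
  have hcr : ∀ U : AddSubgroup (↥B ⧸ NN A B), (∀ a : ρ.range, ∀ v ∈ U, a • v ∈ U) →
      ∃ W : AddSubgroup (↥B ⧸ NN A B), (∀ a : ρ.range, ∀ w ∈ W, a • w ∈ W) ∧ U ⊓ W = ⊥ ∧ U ⊔ W = ⊤ := by
    intro U hU
    have hU' : ∀ g : S, ∀ v : ↥B, QuotientAddGroup.mk v ∈ U → QuotientAddGroup.mk (rB hS invB g v) ∈ U := by
      intro g v hv
      exact hU ⟨ρ g, g, rfl⟩ _ hv
    let C : Submodule K V :=
      { carrier := {v | ∃ h : v ∈ B, (QuotientAddGroup.mk (⟨v, h⟩ : ↥B) : ↥B ⧸ NN A B) ∈ U}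
        zero_mem' := ⟨B.zero_mem, by
          have : (⟨0, B.zero_mem⟩ : ↥B) = 0 := rfl
          rw [this, QuotientAddGroup.mk_zero]
          exact U.zero_mem⟩
        add_mem' := by
          rintro a b ⟨ha, ha'⟩ ⟨hb, hb'⟩
          refine ⟨B.add_mem ha hb, ?_⟩
          have : (⟨a + b, B.add_mem ha hb⟩ : ↥B) = ⟨a, ha⟩ + ⟨b, hb⟩ := rfl
          rw [this, QuotientAddGroup.mk_add]
          exact U.add_mem ha' hb'
        smul_mem' := by
          rintro c v ⟨hv, hv'⟩
          refine ⟨B.smul_mem c hv, ?_⟩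
          by_cases hc : c = 0
          · subst hc
            have : (⟨(0 : K) • v, B.smul_mem 0 hv⟩ : ↥B) = 0 := Subtype.ext (zero_smul K v)
            rw [this, QuotientAddGroup.mk_zero]
            exact U.zero_mem
          · have := hU' ⟨hm K V (Units.mk0 c hc), hh _⟩ ⟨v, hv⟩ hv'
            exact this }
    have hAC : A ≤ C := by
      intro v hv
      refine ⟨hAB hv, ?_⟩
      have : (QuotientAddGroup.mk (⟨v, hAB hv⟩ : ↥B) : ↥B ⧸ NN A B) = 0 :=
        (QuotientAddGroup.eq_zero_iff _).2 hv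
      rw [this]
      exact U.zero_mem
    have hCB : C ≤ B := fun v hv => hv.1
    rcases irr C hAC hCB (fun g hg v hv => ⟨invB g hg v hv.1, hU' ⟨g, hg⟩ ⟨v, hv.1⟩ hv.2⟩) with hC | hC
    · have hUb : U = ⊥ := by
        rw [eq_bot_iff]
        intro x hx
        obtain ⟨v, rfl⟩ := QuotientAddGroup.mk_surjective x
        have : (v : V) ∈ C := ⟨v.2, hx⟩
        rw [hC] at this
        exact (QuotientAddGroup.eq_zero_iff _).2 this
      exact ⟨⊤, fun _ _ _ => AddSubgroup.mem_top _, by rw [hUb]; exact bot_inf_eq _, by rw [sup_top_eq]⟩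
    · have hUt : U = ⊤ := by
        rw [eq_top_iff]
        intro x _
        obtain ⟨v, rfl⟩ := QuotientAddGroup.mk_surjective x
        have : (v : V) ∈ C := by rw [hC]; exact v.2
        exact this.2
      refine ⟨⊥, fun a w hw => ?_, by rw [inf_bot_eq], by rw [hUt]; exact top_sup_eq _⟩
      rw [AddSubgroup.mem_bot] at hw ⊢
      rw [hw, smul_zero]
  have : Finite ↥B := inferInstance
  have : Finite (↥B ⧸ NN A B) := inferInstance
  obtain ⟨v₁, v₂, v₃, hv⟩ := Cfsg.Agent.H578.base3 (A := ρ.range) hsol' hcr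
  obtain ⟨w₁, rfl⟩ := QuotientAddGroup.mk_surjective v₁
  obtain ⟨w₂, rfl⟩ := QuotientAddGroup.mk_surjective v₂
  obtain ⟨w₃, rfl⟩ := QuotientAddGroup.mk_surjective v₃
  have key : ∀ g : S, ∀ w : ↥B, (g : Equiv.Perm V) w - w ∈ A ↔
      ρ g (QuotientAddGroup.mk w) = QuotientAddGroup.mk w := by
    intro g w
    have h1 : ρ g (QuotientAddGroup.mk w) = QuotientAddGroup.mk (rB hS invB g w) := rfl
    rw [h1, eq_comm, QuotientAddGroup.eq, mem_NN]
    have h2 : ((-w + rB hS invB g w : ↥B) : V) = (g : Equiv.Perm V) w - w := by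
      change -(w : V) + (g : Equiv.Perm V) w = (g : Equiv.Perm V) w - w
      exact neg_add_eq_sub _ _
    rw [h2]
  refine ⟨![w₁, w₂, w₃], ⟨hS, hh, hAB, invA, invB, fun j => ?_, fun g hg hw v hvB => ?_⟩⟩
  · fin_cases j
    · exact w₁.2
    · exact w₂.2
    · exact w₃.2
  · have h1 := hv ⟨ρ ⟨g, hg⟩, ⟨g, hg⟩, rfl⟩ ((key ⟨g, hg⟩ w₁).1 (hw 0)) ((key ⟨g, hg⟩ w₂).1 (hw 1))
      ((key ⟨g, hg⟩ w₃).1 (hw 2))
    have h2 : ρ ⟨g, hg⟩ = 1 := congrArg Subtype.val h1
    refine (key ⟨g, hg⟩ ⟨v, hvB⟩).2 ?_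
    rw [h2]
    rfl

end Cfsg.Agent.H754.FC
end

-- part: H200/FC/RedA
section
/-!
# S5764, StmtRed, case (I): `A` of dimension 1 (helper200)
-/

set_option autoImplicit false

namespace Cfsg.Agent.H200.FC

open Cfsg.Agent.H198.FC Cfsg.Agent.H754.FC Module

universe u v

section

variable {K : Type u} [Field K] {V : Type v} [AddCommGroup V] [Module K V]

/-- linearly independent families are conjugate -/
theorem exists_equiv {ι : Type*} [Finite ι] {v v' : ι → V} (hv : LinearIndependent K v)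
    (hv' : LinearIndependent K v') : ∃ g : V ≃ₗ[K] V, ∀ i, g (v i) = v' i := by
  have : FiniteDimensional K (Submodule.span K (Set.range v)) := FiniteDimensional.span_of_finite K (Set.finite_range _)
  let f := hv.linearCombinationEquiv.symm ≪≫ₗ hv'.linearCombinationEquiv
  obtain ⟨g, hg⟩ := Submodule.exists_linearEquiv_restrict_eq f
  refine ⟨g, fun i => ?_⟩
  have h1 := hg (hv.linearCombinationEquiv (Finsupp.single i 1))
  rw [LinearEquiv.trans_apply, LinearEquiv.symm_apply_apply] at h1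
  rw [LinearIndependent.linearCombinationEquiv_apply_coe, LinearIndependent.linearCombinationEquiv_apply_coe] at h1
  simpa using h1.symm

theorem exists_equiv_one {v v' : V} (hv : v ≠ 0) (hv' : v' ≠ 0) : ∃ g : V ≃ₗ[K] V, g v = v' := by
  obtain ⟨g, hg⟩ := exists_equiv (K := K) (v := fun _ : Unit => v) (v' := fun _ : Unit => v')
    (linearIndependent_unique_iff.2 hv) (linearIndependent_unique_iff.2 hv')
  exact ⟨g, hg ()⟩

/-- the conclusion for `S` -/
def Cn (S : Subgroup (Equiv.Perm V)) (K : Type u) [Field K] [Module K V] : Prop :=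
  ∃ x : Fin 4 → (V ≃ₗ[K] V), ∀ g ∈ S,
    (∀ i, ((x i).toEquiv : Equiv.Perm V) * g * ((x i).toEquiv : Equiv.Perm V)⁻¹ ∈ S) → ∃ a : Kˣ, g = hm K V a

theorem of_y {S : Subgroup (Equiv.Perm V)} (y : Fin 4 → (V ≃ₗ[K] V))
    (h : ∀ g ∈ S, (∀ i, ((y i).toEquiv : Equiv.Perm V)⁻¹ * g * ((y i).toEquiv : Equiv.Perm V) ∈ S) →
      ∃ a : Kˣ, g = hm K V a) : Cn S K :=
  ⟨fun i => (y i).symm, fun g hg hi => h g hg fun i => hi i⟩

theorem fin_of {S : Subgroup (Equiv.Perm V)} {A : Submodule K V} {w : Fin 3 → V} (h : Sec S A ⊤ w)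
    {g : Equiv.Perm V} (hg : g ∈ S) (y : V ≃ₗ[K] V)
    (hy : (y.toEquiv : Equiv.Perm V)⁻¹ * g * (y.toEquiv : Equiv.Perm V) ∈ S) (c : Kˣ)
    (h0 : ∀ j, g (w j) = (c : K) • w j) (h1 : ∀ j, g (y (w j)) = (c : K) • y (w j))
    (hA : ∀ v ∈ A, y.symm v ∈ A → v = 0) : g = hm K V c := by
  have e0 := h.scalar hg (c := c) (fun j => by rw [h0, sub_self]; exact A.zero_mem)
  have e1 := h.scalar hy (c := c) (fun j => by
    change y.symm (g (y (w j))) - (c : K) • w j ∈ A
    rw [h1, map_smul, LinearEquiv.symm_apply_apply, sub_self]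
    exact A.zero_mem)
  apply Equiv.ext
  intro v
  rw [hm_apply, ← sub_eq_zero]
  apply hA _ (e0 v trivial)
  have e2 := e1 (y.symm v) trivial
  change y.symm (g (y (y.symm v))) - (c : K) • y.symm v ∈ A at e2
  rwa [LinearEquiv.apply_symm_apply, ← map_smul, ← map_sub] at e2

/-- an element of the conjugate of `S` fixes the conjugate point -/
theorem pt_of {S : Subgroup (Equiv.Perm V)} {A : Submodule K V} {w : Fin 3 → V} (h : Sec S A ⊤ w)
    {a : V} (ha : ∀ v ∈ A, ∃ c : K, v = c • a) (haA : a ∈ A) {g : Equiv.Perm V} (y : V ≃ₗ[K] V)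
    (hy : (y.toEquiv : Equiv.Perm V)⁻¹ * g * (y.toEquiv : Equiv.Perm V) ∈ S) :
    ∃ c : K, g (y a) = c • y a := by
  obtain ⟨c, hc⟩ := ha _ (h.invA _ hy a haA)
  change y.symm (g (y a)) = c • a at hc
  refine ⟨c, ?_⟩
  rw [← map_smul, ← hc, LinearEquiv.apply_symm_apply]

/-- the frame argument: four independent vectors and their sum -/
theorem frame_eq {g : Equiv.Perm V} (hg : g ∈ Semi K V) {m : ℕ} {e : Fin m → V} (he : LinearIndependent K e)
    (l : Fin m → K) (hl : ∀ i, g (e i) = l i • e i) (c : K) (hc : g (∑ i, e i) = c • ∑ i, e i) :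
    ∀ i, l i = c := by
  have h1 : g (∑ i, e i) = ∑ i, g (e i) := by
    let G : V →+ V := ⟨⟨g, semi_zero hg⟩, semi_add hg⟩
    exact map_sum G e Finset.univ
  rw [h1, Finset.smul_sum, ← sub_eq_zero, ← Finset.sum_sub_distrib] at hc
  have h2 : ∑ i, (l i - c) • e i = 0 := by
    rw [← hc]
    apply Finset.sum_congr rfl
    intro i _
    rw [hl, sub_smul]
  intro i
  exact sub_eq_zero.1 (Fintype.linearIndependent_iff.1 he _ h2 i)

end

end Cfsg.Agent.H200.FC
end

-- part: H200/FC/RedB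
section
/-!
# S5764, StmtRed, case (I): `A` of dimension 1 (helper200)
-/

set_option autoImplicit false

namespace Cfsg.Agent.H200.FC

open Cfsg.Agent.H198.FC Cfsg.Agent.H754.FC Module

universe u v

section

variable {K : Type u} [Field K] {V : Type v} [AddCommGroup V] [Module K V]

/-- a subspace is contained in subspaces of every larger dimension -/
theorem exists_sup [Module.Finite K V] (W : Submodule K V) (k : ℕ) (h : finrank K W + k ≤ finrank K V) :
    ∃ V0 : Submodule K V, W ≤ V0 ∧ finrank K V0 = finrank K W + k := by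
  induction k with
  | zero => exact ⟨W, le_rfl, rfl⟩
  | succ k ih =>
    obtain ⟨V0, h1, h2⟩ := ih (by omega)
    have h3 : V0 ≠ ⊤ := by
      rintro rfl
      rw [finrank_top] at h2
      omega
    obtain ⟨v, hv⟩ : ∃ v, v ∉ V0 := by
      by_contra hcon
      push Not at hcon
      exact h3 (eq_top_iff.2 fun v _ => hcon v)
    refine ⟨V0 ⊔ Submodule.span K {v}, h1.trans le_sup_left, ?_⟩
    rw [Submodule.finrank_sup_span_singleton hv, h2]
    omega

/-- a generator of the field -/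
theorem exists_gen (K : Type u) [Field K] [Finite K] :
    ∃ γ : K, γ ≠ 0 ∧ ∀ σ : K ≃+* K, σ γ = γ → ∀ t, σ t = t := by
  obtain ⟨g, hg⟩ := IsCyclic.exists_generator (α := Kˣ)
  refine ⟨g, g.ne_zero, fun σ hσ t => ?_⟩
  by_cases ht : t = 0
  · rw [ht, map_zero]
  obtain ⟨k, hk⟩ := hg (Units.mk0 t ht)
  have h5 : t = ((g ^ k : Kˣ) : K) := by
    change g ^ k = Units.mk0 t ht at hk
    rw [hk]
    rfl
  rw [h5, Units.val_zpow_eq_zpow_val, map_zpow₀, hσ]

/-- a basis of `V0` starting with a given vector, as a family in `V` -/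
theorem exists_fam [Module.Finite K V] {m : ℕ} (V0 : Submodule K V) (h0 : finrank K V0 = m + 1) {a : V} (ha : a ≠ 0)
    (haV : a ∈ V0) : ∃ e : Fin (m + 1) → V, LinearIndependent K e ∧ e 0 = a ∧ (∀ i, e i ∈ V0) ∧
      ∀ v ∈ V0, ∃ c : Fin (m + 1) → K, v = ∑ i, c i • e i := by
  let b := Module.finBasisOfFinrankEq K V0 h0
  have hb0 : b 0 ≠ 0 := b.ne_zero 0
  have ha' : (⟨a, haV⟩ : V0) ≠ 0 := fun h => ha (congrArg Subtype.val h)
  obtain ⟨f, hf⟩ := exists_equiv_one (K := K) hb0 ha'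
  let b' := b.map f
  refine ⟨fun i => (b' i : V), b'.linearIndependent.map' V0.subtype V0.ker_subtype, ?_, fun i => (b' i).2,
    fun v hv => ?_⟩
  · change ((b.map f 0 : V0) : V) = a
    rw [Basis.map_apply, hf]
  · refine ⟨fun i => b'.repr ⟨v, hv⟩ i, ?_⟩
    have h1 := congrArg Subtype.val (b'.sum_repr ⟨v, hv⟩)
    rw [Submodule.coe_sum] at h1
    exact h1.symm

theorem app_sum {g : Equiv.Perm V} (hg : g ∈ Semi K V) {ι : Type*} (s : Finset ι) (f : ι → V) :
    g (∑ i ∈ s, f i) = ∑ i ∈ s, g (f i) := by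
  let G : V →+ V := ⟨⟨g, semi_zero hg⟩, semi_add hg⟩
  exact map_sum G f s

theorem li_comp {m : ℕ} {e e' : Fin m → V} (he : LinearIndependent K e) (π : Equiv.Perm (Fin m))
    (h : ∀ i, e' i = e (π i)) : LinearIndependent K e' := by
  have : e' = e ∘ π := funext h
  rw [this]
  exact he.comp π π.injective

/-- disjointness of two points -/
theorem disj_of {m : ℕ} {e : Fin m → V} (he : LinearIndependent K e) {i j : Fin m} (hij : i ≠ j)
    {A : Submodule K V} (hA : ∀ v ∈ A, ∃ c : K, v = c • e i) (y : V ≃ₗ[K] V) (hy : y (e i) = e j) :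
    ∀ v ∈ A, y.symm v ∈ A → v = 0 := by
  intro v hv hv'
  obtain ⟨c, hc⟩ := hA v hv
  obtain ⟨d, hd⟩ := hA _ hv'
  have h1 : v = d • e j := by
    rw [← hy, ← map_smul, ← hd, LinearEquiv.apply_symm_apply]
  have h2 : LinearIndependent K ![e i, e j] := by
    have h3 := he.comp ![i, j] (by
      intro a b hab
      fin_cases a <;> fin_cases b <;> simp_all)
    convert h3 using 1
    funext a
    fin_cases a <;> rfl
  have h3 : c • e i + (-d) • e j = 0 := by
    rw [neg_smul, ← hc, ← h1, add_neg_cancel]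
  have h4 := (LinearIndependent.pair_iff.1 h2) c (-d) h3
  rw [hc, h4.1, zero_smul]

/-- **case (I), `a = 1`** -/
theorem red_pt [Finite K] [Module.Finite K V] {S : Subgroup (Equiv.Perm V)} {A : Submodule K V} {w : Fin 3 → V}
    (h : Sec S A ⊤ w) (ha : finrank K A = 1) (hn : 3 ≤ finrank K V) : Cn S K := by
  obtain ⟨a0, ha0, hA⟩ := finrank_eq_one_iff'.1 ha
  obtain ⟨a, haA⟩ := a0
  have ha' : a ≠ 0 := fun h => ha0 (Subtype.ext h)
  have hA' : ∀ v ∈ A, ∃ c : K, v = c • a := fun v hv => by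
    obtain ⟨c, hc⟩ := hA ⟨v, hv⟩
    exact ⟨c, (congrArg Subtype.val hc).symm⟩
  have zero_of : ∀ g ∈ S, ∀ c : K, g a = c • a → c ≠ 0 := by
    rintro g hg c hc rfl
    rw [zero_smul, ← semi_zero (h.semi hg)] at hc
    exact ha' (g.injective hc)
  by_cases hli : LinearIndependent K ![a, w 0, w 1, w 2]
  · -- the frame
    obtain ⟨e, he⟩ : ∃ e : Fin 4 → V, e = ![a, w 0, w 1, w 2] := ⟨_, rfl⟩
    have e0 : e 0 = a := by rw [he]; rfl
    have e1 : e 1 = w 0 := by rw [he]; rfl
    have e2 : e 2 = w 1 := by rw [he]; rfl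
    have e3 : e 3 = w 2 := by rw [he]; rfl
    rw [← he] at hli
    have hli' : LinearIndependent K ![w 0, a, w 1, w 2] := by
      refine li_comp hli (Equiv.swap 0 1) fun i => ?_
      fin_cases i
      · exact e1.symm
      · exact e0.symm
      · exact e2.symm
      · exact e3.symm
    obtain ⟨y0, hy0⟩ := exists_equiv hli hli'
    have y00 : y0 a = w 0 := by rw [← e0]; exact hy0 0
    have y01 : y0 (w 0) = a := by rw [← e1]; exact hy0 1
    have y02 : y0 (w 1) = w 1 := by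
      have := hy0 2
      rw [e2] at this
      exact this
    have y03 : y0 (w 2) = w 2 := by
      have := hy0 3
      rw [e3] at this
      exact this
    have hw1 : w 1 ≠ 0 := by rw [← e2]; exact hli.ne_zero 2
    have hw2 : w 2 ≠ 0 := by rw [← e3]; exact hli.ne_zero 3
    have hs : ∑ i, e i ≠ 0 := by
      intro h0
      have := Fintype.linearIndependent_iff.1 hli (fun _ => 1) (by simpa using h0) 0
      exact one_ne_zero this
    obtain ⟨y1, hy1⟩ := exists_equiv_one (K := K) ha' hw1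
    obtain ⟨y2, hy2⟩ := exists_equiv_one (K := K) ha' hw2
    obtain ⟨y3, hy3⟩ := exists_equiv_one (K := K) ha' hs
    refine of_y ![y0, y1, y2, y3] fun g hg hi => ?_
    obtain ⟨l0, hl0⟩ := hA' _ (h.invA g hg a haA)
    obtain ⟨l1, hl1⟩ := pt_of h hA' haA y0 (hi 0)
    obtain ⟨l2, hl2⟩ := pt_of h hA' haA y1 (hi 1)
    obtain ⟨l3, hl3⟩ := pt_of h hA' haA y2 (hi 2)
    obtain ⟨c, hc⟩ := pt_of h hA' haA y3 (hi 3)
    rw [y00] at hl1
    rw [hy1] at hl2
    rw [hy2] at hl3
    rw [hy3] at hc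
    have hl := frame_eq (h.semi hg) hli ![l0, l1, l2, l3] (fun i => by
      fin_cases i
      · change g (e 0) = l0 • e 0
        rw [e0, hl0]
      · change g (e 1) = l1 • e 1
        rw [e1, hl1]
      · change g (e 2) = l2 • e 2
        rw [e2, hl2]
      · change g (e 3) = l3 • e 3
        rw [e3, hl3]) c hc
    have hc0 : l0 = c := hl 0
    have hc1 : l1 = c := hl 1
    have hc2 : l2 = c := hl 2
    have hc3 : l3 = c := hl 3
    rw [hc0] at hl0
    rw [hc1] at hl1
    rw [hc2] at hl2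
    rw [hc3] at hl3
    have hcne := zero_of g hg c hl0
    refine ⟨Units.mk0 c hcne, fin_of h hg y0 (hi 0) _ (fun j => ?_) (fun j => ?_) ?_⟩
    · fin_cases j
      · exact hl1
      · exact hl2
      · exact hl3
    · fin_cases j
      · change g (y0 (w 0)) = c • y0 (w 0)
        rw [y01, hl0]
      · change g (y0 (w 1)) = c • y0 (w 1)
        rw [y02, hl2]
      · change g (y0 (w 2)) = c • y0 (w 2)
        rw [y03, hl3]
    · refine disj_of hli (i := 0) (j := 1) (by decide) (fun v hv => ?_) y0 ?_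
      · rw [e0]
        exact hA' v hv
      · rw [e0, e1]
        exact y00
  · -- five points of a plane
    have h4 : finrank K (Submodule.span K (Set.range ![a, w 0, w 1, w 2])) ≤ 3 := by
      have h5 := finrank_range_le_card (R := K) ![a, w 0, w 1, w 2]
      rw [Fintype.card_fin] at h5
      rcases Nat.lt_or_ge (Set.finrank K (Set.range ![a, w 0, w 1, w 2])) 4 with h6 | h6
      · exact Nat.le_of_lt_succ h6
      · exact absurd (linearIndependent_iff_card_le_finrank_span.2 (by rw [Fintype.card_fin]; exact h6)) hli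
    obtain ⟨V0, hV0, hV0'⟩ := exists_sup (Submodule.span K (Set.range ![a, w 0, w 1, w 2]))
      (3 - finrank K (Submodule.span K (Set.range ![a, w 0, w 1, w 2]))) (by omega)
    have hV3 : finrank K V0 = 2 + 1 := by omega
    have memV : ∀ i, ![a, w 0, w 1, w 2] i ∈ V0 := fun i => hV0 (Submodule.subset_span ⟨i, rfl⟩)
    have haV : a ∈ V0 := memV 0
    have hwV : ∀ j, w j ∈ V0 := fun j => by
      fin_cases j
      · exact memV 1
      · exact memV 2
      · exact memV 3
    obtain ⟨e, he, e0, heV, hsp⟩ := exists_fam V0 hV3 ha' haV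
    obtain ⟨γ, hγ0, hγ⟩ := exists_gen K
    have he' : LinearIndependent K ![e 1, e 0, e 2] := by
      refine li_comp he (Equiv.swap 0 1) fun i => ?_
      fin_cases i <;> rfl
    obtain ⟨y0, hy0⟩ := exists_equiv he he'
    have y00 : y0 (e 0) = e 1 := hy0 0
    have y01 : y0 (e 1) = e 0 := hy0 1
    have y02 : y0 (e 2) = e 2 := hy0 2
    have hs : ∑ i, e i ≠ 0 := by
      intro h0
      have := Fintype.linearIndependent_iff.1 he (fun _ => 1) (by simpa using h0) 0
      exact one_ne_zero this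
    have hs' : e 0 + e 1 + γ • e 2 ≠ 0 := by
      intro h0
      have := Fintype.linearIndependent_iff.1 he ![1, 1, γ] (by
        rw [Fin.sum_univ_three]
        simpa using h0) 0
      exact one_ne_zero this
    have he2 : e 2 ≠ 0 := he.ne_zero 2
    obtain ⟨y1, hy1⟩ := exists_equiv_one (K := K) ha' he2
    obtain ⟨y2, hy2⟩ := exists_equiv_one (K := K) ha' hs
    obtain ⟨y3, hy3⟩ := exists_equiv_one (K := K) ha' hs'
    refine of_y ![y0, y1, y2, y3] fun g hg hi => ?_
    obtain ⟨l0, hl0⟩ := hA' _ (h.invA g hg a haA)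
    obtain ⟨l1, hl1⟩ := pt_of h hA' haA y0 (hi 0)
    obtain ⟨l2, hl2⟩ := pt_of h hA' haA y1 (hi 1)
    obtain ⟨c, hc⟩ := pt_of h hA' haA y2 (hi 2)
    obtain ⟨d, hd⟩ := pt_of h hA' haA y3 (hi 3)
    rw [← e0, y00] at hl1
    rw [hy1] at hl2
    rw [hy2] at hc
    rw [hy3] at hd
    have hl := frame_eq (h.semi hg) he ![l0, l1, l2] (fun i => by
      fin_cases i
      · change g (e 0) = l0 • e 0
        rw [e0, hl0]
      · exact hl1
      · exact hl2) c hc
    have hc0 : l0 = c := hl 0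
    have hc1 : l1 = c := hl 1
    have hc2 : l2 = c := hl 2
    rw [hc0] at hl0
    rw [hc1] at hl1
    rw [hc2] at hl2
    have hcne := zero_of g hg c hl0
    rw [← e0] at hl0
    have gadd := semi_add (h.semi hg)
    obtain ⟨-, σ, hσ⟩ := h.semi hg
    have hσγ : σ γ = γ := by
      rw [gadd, gadd, hσ, hl0, hl1, hl2] at hd
      have h7 := Fintype.linearIndependent_iff.1 he ![c - d, c - d, σ γ * c - d * γ] (by
        rw [Fin.sum_univ_three]
        change (c - d) • e 0 + (c - d) • e 1 + (σ γ * c - d * γ) • e 2 = 0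
        rw [sub_smul, sub_smul, sub_smul, mul_smul, mul_smul]
        rw [smul_add, smul_add] at hd
        rw [← sub_eq_zero] at hd
        rw [← hd]
        abel)
      have h8 : c - d = 0 := h7 0
      have h9 : σ γ * c - d * γ = 0 := h7 2
      have h10 : d = c := (sub_eq_zero.1 h8).symm
      rw [h10] at h9
      apply mul_right_cancel₀ hcne
      linear_combination h9
    have hσ1 := hγ σ hσγ
    have hgV : ∀ v ∈ V0, g v = c • v := fun v hv => by
      obtain ⟨k, rfl⟩ := hsp v hv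
      rw [app_sum (h.semi hg), Finset.smul_sum]
      apply Finset.sum_congr rfl
      intro i _
      rw [hσ, hσ1, smul_comm c]
      congr 1
      fin_cases i
      · exact hl0
      · exact hl1
      · exact hl2
    have hyV : ∀ v ∈ V0, y0 v ∈ V0 := fun v hv => by
      obtain ⟨k, rfl⟩ := hsp v hv
      rw [map_sum]
      apply Submodule.sum_mem
      intro i _
      rw [map_smul]
      apply Submodule.smul_mem
      fin_cases i
      · change y0 (e 0) ∈ V0
        rw [y00]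
        exact heV 1
      · change y0 (e 1) ∈ V0
        rw [y01]
        exact heV 0
      · change y0 (e 2) ∈ V0
        rw [y02]
        exact heV 2
    refine ⟨Units.mk0 c hcne, fin_of h hg y0 (hi 0) _ (fun j => hgV _ (hwV j))
      (fun j => hgV _ (hyV _ (hwV j))) ?_⟩
    refine disj_of he (i := 0) (j := 1) (by decide) (fun v hv => ?_) y0 y00
    rw [e0]
    exact hA' v hv

end

end Cfsg.Agent.H200.FC
end

-- part: H200/FC/RedC
section
/-!
# S5764, StmtRed, case (I): `A` of dimension 2; `red_one` (helper200)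
-/

set_option autoImplicit false

namespace Cfsg.Agent.H200.FC

open Cfsg.Agent.H198.FC Cfsg.Agent.H754.FC Module

universe u v

section

variable {K : Type u} [Field K] {V : Type v} [AddCommGroup V] [Module K V]

/-- `RIGID5(2,5)`: five rigid planes in a 5-dimensional space -/
theorem rigid_two_five {e : Fin 5 → V} (he : LinearIndependent K e) {γ : K} (hγ0 : γ ≠ 0)
    (hγ : ∀ σ : K ≃+* K, σ γ = γ → ∀ t, σ t = t) {k : Equiv.Perm V} (hk : k ∈ Semi K V)
    (h0 : ∃ c d : K, k (e 0) = c • e 0 + d • e 1) (h0' : ∃ c d : K, k (e 1) = c • e 0 + d • e 1)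
    (h1 : ∃ c d : K, k (e 2) = c • e 2 + d • e 3) (h1' : ∃ c d : K, k (e 3) = c • e 2 + d • e 3)
    (h2 : ∃ c d : K, k (e 0 + e 2) = c • (e 0 + e 2) + d • (e 1 + e 3))
    (h2' : ∃ c d : K, k (e 1 + e 3) = c • (e 0 + e 2) + d • (e 1 + e 3))
    (h3 : ∃ c d : K, k (e 0 + e 4) = c • (e 0 + e 4) + d • (e 1 + e 2))
    (h3' : ∃ c d : K, k (e 1 + e 2) = c • (e 0 + e 4) + d • (e 1 + e 2))
    (h4 : ∃ c d : K, k (e 0 + γ • e 3) = c • (e 0 + γ • e 3) + d • (e 1 + e 4))
    (h4' : ∃ c d : K, k (e 1 + e 4) = c • (e 0 + γ • e 3) + d • (e 1 + e 4)) :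
    ∃ l : K, l ≠ 0 ∧ ∀ c : Fin 5 → K, k (∑ i, c i • e i) = l • ∑ i, c i • e i := by
  have li : ∀ c0 c1 c2 c3 c4 : K, c0 • e 0 + c1 • e 1 + c2 • e 2 + c3 • e 3 + c4 • e 4 = 0 →
      c0 = 0 ∧ c1 = 0 ∧ c2 = 0 ∧ c3 = 0 ∧ c4 = 0 := fun c0 c1 c2 c3 c4 h => by
    have h7 := Fintype.linearIndependent_iff.1 he ![c0, c1, c2, c3, c4] (by
      rw [Fin.sum_univ_five]
      exact h)
    exact ⟨h7 0, h7 1, h7 2, h7 3, h7 4⟩
  have kadd := semi_add hk
  obtain ⟨-, σ, hσ⟩ := id hk
  obtain ⟨p0, p1, hp⟩ := h0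
  obtain ⟨q0, q1, hq⟩ := h0'
  obtain ⟨r0, r1, hr⟩ := h1
  obtain ⟨s0, s1, hs⟩ := h1'
  obtain ⟨t0, t1, ht⟩ := h2
  obtain ⟨u0, u1, hu⟩ := h2'
  obtain ⟨v0, v1, hv⟩ := h3
  obtain ⟨w0, w1, hw⟩ := h3'
  obtain ⟨x0, x1, hx⟩ := h4
  obtain ⟨z0, z1, hz⟩ := h4'
  have kv := hv
  rw [kadd, hp, hr] at ht
  rw [kadd, hq, hs] at hu
  rw [kadd, hq, hr] at hw
  rw [kadd, hσ, hp, hs] at hx
  rw [kadd] at hv hz
  obtain ⟨f0, f1, f2, f3, -⟩ := li (p0 - t0) (p1 - t1) (r0 - t0) (r1 - t1) 0 (by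
    rw [← sub_eq_zero] at ht
    rw [← ht]
    module)
  obtain ⟨g0, g1, g2, g3, -⟩ := li (q0 - u0) (q1 - u1) (s0 - u0) (s1 - u1) 0 (by
    rw [← sub_eq_zero] at hu
    rw [← hu]
    module)
  obtain ⟨i0, i1, i2, i3, i4⟩ := li (q0 - w0) (q1 - w1) (r0 - w1) r1 (-w0) (by
    rw [← sub_eq_zero] at hw
    rw [← hw]
    module)
  have eq0 : q0 = 0 := by linear_combination i0 - i4
  have ep1 : p1 = 0 := by linear_combination f1 - f3 + i3
  have eq1 : q1 = p0 := by linear_combination i1 - i2 + f2 - f0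
  have er0 : r0 = p0 := by linear_combination f2 - f0
  have es0 : s0 = 0 := by linear_combination g2 - g0 + eq0
  have es1 : s1 = p0 := by linear_combination g3 - g1 + eq1
  have k0 : k (e 0) = p0 • e 0 := by rw [hp, ep1, zero_smul, add_zero]
  have k1 : k (e 1) = p0 • e 1 := by rw [hq, eq0, eq1, zero_smul, zero_add]
  have k2 : k (e 2) = p0 • e 2 := by rw [hr, er0, i3, zero_smul, add_zero]
  have k3 : k (e 3) = p0 • e 3 := by rw [hs, es0, es1, zero_smul, zero_add]
  obtain ⟨j0, j1, -, j3, -⟩ := li (p0 - x0) (p1 - x1) (σ γ * s0) (σ γ * s1 - x0 * γ) (-x1) (by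
    rw [← sub_eq_zero] at hx
    rw [← hx]
    module)
  have p0ne : p0 ≠ 0 := by
    rintro rfl
    rw [zero_smul, ← semi_zero hk] at k0
    exact he.ne_zero 0 (k.injective k0)
  have hσγ : σ γ = γ := by
    apply mul_right_cancel₀ p0ne
    rw [es1] at j3
    linear_combination j3 + γ * (-j0)
  have hσ1 := hγ σ hσγ
  obtain ⟨l0, -, l2, l3, -⟩ := li (v0 - z0 - p0) (v1 - z1 + p0) v1 (-(z0 * γ)) (v0 - z1) (by
    have h5 : k (e 0) + k (e 4) - (k (e 1) + k (e 4)) = p0 • e 0 - p0 • e 1 := by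
      rw [k0, k1]
      abel
    rw [hv, hz, ← sub_eq_zero] at h5
    rw [← h5]
    module)
  have z00 : z0 = 0 := by
    rcases mul_eq_zero.1 (neg_eq_zero.1 l3) with h6 | h6
    · exact h6
    · exact absurd h6 hγ0
  have v00 : v0 = p0 := by linear_combination l0 + z00
  have k4 : k (e 4) = p0 • e 4 := by
    rw [k0, l2, v00] at hv
    have h6 : k (e 4) = p0 • (e 0 + e 4) + (0 : K) • (e 1 + e 2) - p0 • e 0 := by
      rw [← hv]
      abel
    rw [h6]
    module
  refine ⟨p0, p0ne, fun c => ?_⟩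
  rw [app_sum hk, Finset.smul_sum]
  apply Finset.sum_congr rfl
  intro i _
  rw [hσ, hσ1, smul_comm p0]
  congr 1
  fin_cases i
  · exact k0
  · exact k1
  · exact k2
  · exact k3
  · exact k4

/-- a basis of `V0` starting with a basis of the plane `A` -/
theorem exists_fam2 [Module.Finite K V] {m : ℕ} (V0 : Submodule K V) (h0 : finrank K V0 = m + 2) (A : Submodule K V)
    (hA2 : finrank K A = 2) (hA : A ≤ V0) : ∃ e : Fin (m + 2) → V, LinearIndependent K e ∧ (∀ i, e i ∈ V0) ∧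
      e 0 ∈ A ∧ e 1 ∈ A ∧ (∀ v ∈ A, ∃ c d : K, v = c • e 0 + d • e 1) ∧
      ∀ v ∈ V0, ∃ c : Fin (m + 2) → K, v = ∑ i, c i • e i := by
  let b := Module.finBasisOfFinrankEq K V0 h0
  let bA := Module.finBasisOfFinrankEq K A hA2
  have l1 : LinearIndependent K (fun j : Fin 2 => b (Fin.castLE (by omega) j)) :=
    b.linearIndependent.comp _ (Fin.castLE_injective _)
  have l2 : LinearIndependent K (fun j : Fin 2 => (⟨(bA j : V), hA (bA j).2⟩ : V0)) := by
    have := bA.linearIndependent.map' (Submodule.inclusion hA) (Submodule.ker_inclusion _ _ _)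
    exact this
  obtain ⟨f, hf⟩ := exists_equiv (K := K) l1 l2
  let b' := b.map f
  have e0 : ((b' 0 : V0) : V) = bA 0 := congrArg Subtype.val (hf 0)
  have e1 : ((b' 1 : V0) : V) = bA 1 := congrArg Subtype.val (hf 1)
  refine ⟨fun i => (b' i : V), b'.linearIndependent.map' V0.subtype V0.ker_subtype, fun i => (b' i).2, ?_, ?_,
    fun v hv => ?_, fun v hv => ?_⟩
  · change ((b' 0 : V0) : V) ∈ A
    rw [e0]
    exact (bA 0).2
  · change ((b' 1 : V0) : V) ∈ A
    rw [e1]
    exact (bA 1).2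
  · have h1 := congrArg Subtype.val (bA.sum_repr ⟨v, hv⟩)
    rw [Submodule.coe_sum, Fin.sum_univ_two] at h1
    refine ⟨bA.repr ⟨v, hv⟩ 0, bA.repr ⟨v, hv⟩ 1, ?_⟩
    dsimp only
    rw [e0, e1]
    exact h1.symm
  · refine ⟨fun i => b'.repr ⟨v, hv⟩ i, ?_⟩
    have h1 := congrArg Subtype.val (b'.sum_repr ⟨v, hv⟩)
    rw [Submodule.coe_sum] at h1
    exact h1.symm

theorem exists_equiv_two [Module.Finite K V] {a b a' b' : V} (h : LinearIndependent K ![a, b])
    (h' : LinearIndependent K ![a', b']) : ∃ g : V ≃ₗ[K] V, g a = a' ∧ g b = b' := by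
  obtain ⟨g, hg⟩ := exists_equiv h h'
  exact ⟨g, hg 0, hg 1⟩

/-- **case (I), `a = 2`** -/
theorem red_plane [Finite K] [Module.Finite K V] {S : Subgroup (Equiv.Perm V)} {A : Submodule K V}
    {w : Fin 3 → V} (h : Sec S A ⊤ w) (ha : finrank K A = 2) (hn : 5 ≤ finrank K V) : Cn S K := by
  have h4 : finrank K (A ⊔ Submodule.span K (Set.range w) : Submodule K V) ≤ 5 := by
    have h5 := finrank_range_le_card (R := K) w
    rw [Fintype.card_fin] at h5
    have h6 := Submodule.finrank_add_le_finrank_add_finrank A (Submodule.span K (Set.range w))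
    have h7 : finrank K (Submodule.span K (Set.range w)) ≤ 3 := h5
    omega
  obtain ⟨V0, hV0, hV0'⟩ := exists_sup (A ⊔ Submodule.span K (Set.range w))
    (5 - finrank K (A ⊔ Submodule.span K (Set.range w) : Submodule K V)) (by omega)
  have hV5 : finrank K V0 = 3 + 2 := by omega
  have hAV : A ≤ V0 := le_sup_left.trans hV0
  have hwV : ∀ j, w j ∈ V0 := fun j => hV0 (Submodule.mem_sup_right (Submodule.subset_span ⟨j, rfl⟩))
  obtain ⟨e, he, heV, heA0, heA1, hA, hsp⟩ := exists_fam2 V0 hV5 A ha hAV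
  obtain ⟨γ, hγ0, hγ⟩ := exists_gen K
  have li : ∀ c0 c1 c2 c3 c4 : K, c0 • e 0 + c1 • e 1 + c2 • e 2 + c3 • e 3 + c4 • e 4 = 0 →
      c0 = 0 ∧ c1 = 0 ∧ c2 = 0 ∧ c3 = 0 ∧ c4 = 0 := fun c0 c1 c2 c3 c4 h => by
    have h7 := Fintype.linearIndependent_iff.1 he ![c0, c1, c2, c3, c4] (by
      rw [Fin.sum_univ_five]
      exact h)
    exact ⟨h7 0, h7 1, h7 2, h7 3, h7 4⟩
  have p01 : LinearIndependent K ![e 0, e 1] := LinearIndependent.pair_iff.2 fun s t hst => by
    obtain ⟨f0, f1, -⟩ := li s t 0 0 0 (by rw [← hst]; module)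
    exact ⟨f0, f1⟩
  have p2 : LinearIndependent K ![e 0 + e 2, e 1 + e 3] := LinearIndependent.pair_iff.2 fun s t hst => by
    obtain ⟨f0, f1, -⟩ := li s t s t 0 (by rw [← hst]; module)
    exact ⟨f0, f1⟩
  have p3 : LinearIndependent K ![e 0 + e 4, e 1 + e 2] := LinearIndependent.pair_iff.2 fun s t hst => by
    obtain ⟨f0, f1, -⟩ := li s t t 0 s (by rw [← hst]; module)
    exact ⟨f0, f1⟩
  have p4 : LinearIndependent K ![e 0 + γ • e 3, e 1 + e 4] := LinearIndependent.pair_iff.2 fun s t hst => by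
    obtain ⟨f0, f1, -⟩ := li s t 0 (s * γ) t (by rw [← hst]; module)
    exact ⟨f0, f1⟩
  obtain ⟨π, hπ⟩ : ∃ π : Equiv.Perm (Fin 5), π 0 = 2 ∧ π 1 = 3 ∧ π 2 = 0 ∧ π 3 = 1 ∧ π 4 = 4 := by
    refine ⟨Equiv.swap 0 2 * Equiv.swap 1 3, ?_⟩
    decide
  obtain ⟨π0, π1, π2, π3, π4⟩ := hπ
  obtain ⟨y0, hy0⟩ := exists_equiv he (li_comp he π (e' := fun i => e (π i)) fun i => rfl)
  have y00 : y0 (e 0) = e 2 := by rw [hy0]; exact congrArg e π0
  have y01 : y0 (e 1) = e 3 := by rw [hy0]; exact congrArg e π1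
  obtain ⟨y1, y10, y11⟩ := exists_equiv_two p01 p2
  obtain ⟨y2, y20, y21⟩ := exists_equiv_two p01 p3
  obtain ⟨y3, y30, y31⟩ := exists_equiv_two p01 p4
  -- elements of the conjugates
  have pt2 : ∀ {g : Equiv.Perm V} (y : V ≃ₗ[K] V),
      (y.toEquiv : Equiv.Perm V)⁻¹ * g * (y.toEquiv : Equiv.Perm V) ∈ S → ∀ v ∈ A,
      ∃ c d : K, g (y v) = c • y (e 0) + d • y (e 1) := fun {g} y hy v hv => by
    obtain ⟨c, d, hc⟩ := hA _ (h.invA _ hy v hv)
    change y.symm (g (y v)) = c • e 0 + d • e 1 at hc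
    refine ⟨c, d, ?_⟩
    rw [← map_smul, ← map_smul, ← map_add, ← hc, LinearEquiv.apply_symm_apply]
  refine of_y ![y0, y1, y2, y3] fun g hg hi => ?_
  have hgs := h.semi hg
  have a0 := hA _ (h.invA g hg _ heA0)
  have a1 := hA _ (h.invA g hg _ heA1)
  have b0 := pt2 y0 (hi 0) _ heA0
  have b1 := pt2 y0 (hi 0) _ heA1
  have c0 := pt2 y1 (hi 1) _ heA0
  have c1 := pt2 y1 (hi 1) _ heA1
  have d0 := pt2 y2 (hi 2) _ heA0
  have d1 := pt2 y2 (hi 2) _ heA1
  have f0 := pt2 y3 (hi 3) _ heA0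
  have f1 := pt2 y3 (hi 3) _ heA1
  rw [y00, y01] at b0
  rw [y00, y01] at b1
  rw [y10, y11] at c0
  rw [y10, y11] at c1
  rw [y20, y21] at d0
  rw [y20, y21] at d1
  rw [y30, y31] at f0
  rw [y30, y31] at f1
  obtain ⟨l, hl0, hl⟩ := rigid_two_five he hγ0 hγ hgs a0 a1 b0 b1 c0 c1 d0 d1 f0 f1
  have hgV : ∀ v ∈ V0, g v = l • v := fun v hv => by
    obtain ⟨k, rfl⟩ := hsp v hv
    exact hl k
  have hyV : ∀ v ∈ V0, y0 v ∈ V0 := fun v hv => by
    obtain ⟨k, rfl⟩ := hsp v hv
    rw [map_sum]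
    apply Submodule.sum_mem
    intro i _
    rw [map_smul, hy0]
    exact Submodule.smul_mem _ _ (heV _)
  refine ⟨Units.mk0 l hl0, fin_of h hg y0 (hi 0) _ (fun j => hgV _ (hwV j))
    (fun j => hgV _ (hyV _ (hwV j))) fun v hv hv' => ?_⟩
  obtain ⟨s, t, hst⟩ := hA v hv
  obtain ⟨s', t', hst'⟩ := hA _ hv'
  have h8 : v = s' • e 2 + t' • e 3 := by
    rw [← y00, ← y01, ← map_smul, ← map_smul, ← map_add, ← hst', LinearEquiv.apply_symm_apply]
  obtain ⟨g0, g1, -⟩ := li s t (-s') (-t') 0 (by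
    have h9 : v - v = 0 := sub_self v
    nth_rewrite 1 [hst] at h9
    rw [h8] at h9
    rw [← h9]
    module)
  rw [hst, g0, g1, zero_smul, zero_smul, add_zero]

/-- **case (I)** of StmtRed -/
theorem red_one [Finite K] [Module.Finite K V] {S : Subgroup (Equiv.Perm V)} {A : Submodule K V} {w : Fin 3 → V}
    (h : Sec S A ⊤ w) (ha : finrank K A = 1 ∨ finrank K A = 2) (hn : 2 * finrank K A < finrank K V) :
    FiveV K V S := by
  refine fiveV_of_gl h ?_ fun S' _ hS' => ?_
  · rintro rfl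
    rw [finrank_bot] at ha
    omega
  · rcases ha with ha | ha
    · exact red_pt hS' ha (by omega)
    · exact red_plane hS' ha (by omega)

end

end Cfsg.Agent.H200.FC
end

-- part: H246/FC/Rigid
section
/-!
# S5764 [RIGID5]: five rigid subspaces, moving flags by `SL(V)`, duality (helper246)

`rigid5`: for `A ≤ V₀ ≤ V`, `dim A = a`, `dim V₀ = 2a`, `2a+1` (`a ≥ 2`) or `3a`, there are five subspaces `B i` of `V₀` of
dimension `a`, `B 0 = A`, such that every semilinear bijection fixing them is a homothety on `V₀`.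
-/

set_option autoImplicit false

namespace Cfsg.Agent.H246.FC

open Cfsg.Agent.H198.FC Module

universe u v w

section gen

variable {K : Type u} [Field K] {W : Type w} [AddCommGroup W] [Module K W]

/-- every injective semilinear map commuting with `X` and `Y` is a homothety -/
def Gen (X Y : W →ₗ[K] W) : Prop :=
  ∀ (g : W → W) (σ : K ≃+* K), (∀ z w, g (z + w) = g z + g w) → (∀ (c : K) z, g (c • z) = σ c • g z) →
    Function.Injective g → (∀ z, g (X z) = X (g z)) → (∀ z, g (Y z) = Y (g z)) → ∃ c : K, ∀ z, g z = c • z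

/-- the additive map of a semilinear map -/
theorem g_sum {g : W → W} (hg : ∀ z w, g (z + w) = g z + g w) {ι : Type*} (s : Finset ι) (f : ι → W) :
    g (∑ i ∈ s, f i) = ∑ i ∈ s, g (f i) := by
  classical
  let G : W →+ W := AddMonoidHom.mk' g hg
  exact map_sum G f s

theorem semilin_eq_smul {n : ℕ} (b : Basis (Fin n) K W) {g : W → W} (hg : ∀ z w, g (z + w) = g z + g w)
    (hs : ∀ (c : K) z, g (c • z) = c • g z) {c : K} (h : ∀ i, g (b i) = c • b i) (z : W) : g z = c • z := by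
  conv_lhs => rw [← b.sum_repr z]
  conv_rhs => rw [← b.sum_repr z]
  rw [g_sum hg, Finset.smul_sum]
  refine Finset.sum_congr rfl fun i _ => ?_
  rw [hs, h, smul_comm]

/-- `X` is a shift (`b_{j+1} ↦ b_j`), `Y = γ b_last ⊗ b_0^*` -/
theorem gen_of {n : ℕ} (b : Basis (Fin (n + 1)) K W) {γ : K}
    (hγ : ∀ σ : K ≃+* K, σ γ = γ → σ = RingEquiv.refl K)
    (hγ0 : γ ≠ 0) (X Y : W →ₗ[K] W) (hX : ∀ j : Fin n, X (b j.succ) = b j.castSucc)
    (hY0 : Y (b 0) = γ • b (Fin.last n)) (hY : ∀ j : Fin n, Y (b j.succ) = 0) : Gen X Y := by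
  intro g σ hg hs hinj hgX hgY
  have hg0 : g 0 = 0 := by
    have := hs 0 0
    simpa using this
  have hYall : ∀ v, Y v = (b.repr v 0 * γ) • b (Fin.last n) := by
    intro v
    conv_lhs => rw [← b.sum_repr v]
    rw [map_sum, Fin.sum_univ_succ]
    simp [hY0, hY, smul_smul]
  have h1 : σ γ • g (b (Fin.last n)) = (b.repr (g (b 0)) 0 * γ) • b (Fin.last n) := by
    rw [← hs, ← hY0, hgY, hYall]
  have hσγ : σ γ ≠ 0 := fun h => hγ0 (by simpa using h)
  obtain ⟨c, hc⟩ : ∃ c : K, g (b (Fin.last n)) = c • b (Fin.last n) := by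
    refine ⟨(σ γ)⁻¹ * (b.repr (g (b 0)) 0 * γ), ?_⟩
    rw [mul_smul, ← h1, smul_smul, inv_mul_cancel₀ hσγ, one_smul]
  have hall : ∀ i, g (b i) = c • b i := by
    intro i
    induction i using Fin.reverseInduction with
    | last => exact hc
    | cast j ih => rw [← hX, hgX, ih, map_smul]
  have hc0 : c ≠ 0 := by
    rintro rfl
    have h2 := hall 0
    rw [zero_smul, ← hg0] at h2
    exact b.ne_zero 0 (hinj h2)
  have h3 : σ γ = γ := by
    rw [hall 0, hall (Fin.last n), smul_smul] at h1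
    have h4 : (σ γ * c - b.repr (c • b 0) 0 * γ) • b (Fin.last n) = 0 := by
      rw [sub_smul, h1, sub_self]
    rcases smul_eq_zero.1 h4 with h5 | h5
    · have h6 : b.repr (c • b 0) 0 = c := by simp
      rw [h6] at h5
      have h7 : c * (σ γ - γ) = 0 := by linear_combination h5
      rcases mul_eq_zero.1 h7 with h8 | h8
      · exact absurd h8 hc0
      · exact sub_eq_zero.1 h8
    · exact absurd h5 (b.ne_zero _)
  have h4 := hγ σ h3
  subst h4
  exact ⟨c, semilin_eq_smul b hg (fun c z => hs c z) hall⟩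

theorem exists_gamma (K : Type u) [Field K] [Finite K] :
    ∃ γ : K, γ ≠ 0 ∧ ∀ σ : K ≃+* K, σ γ = γ → σ = RingEquiv.refl K := by
  obtain ⟨g, hg⟩ := IsCyclic.exists_generator (α := Kˣ)
  refine ⟨g, g.ne_zero, fun σ h => ?_⟩
  apply RingEquiv.ext
  intro x
  by_cases hx : x = 0
  · simp [hx]
  obtain ⟨n, hn⟩ := hg (Units.mk0 x hx)
  have h1 : Units.map (σ : K →* K) g = g := Units.ext h
  have h2 : Units.map (σ : K →* K) (Units.mk0 x hx) = Units.mk0 x hx := by
    rw [← hn]
    change Units.map (σ : K →* K) (g ^ n) = g ^ n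
    rw [map_zpow, h1]
  exact congrArg Units.val h2

theorem Gen.symm {X Y : W →ₗ[K] W} (h : Gen X Y) : Gen Y X :=
  fun g σ hg hs hinj h1 h2 => h g σ hg hs hinj h2 h1

theorem Gen.one_add {X Y : W →ₗ[K] W} (h : Gen X Y) : Gen X (1 + Y) := by
  intro g σ hg hs hinj h1 h2
  refine h g σ hg hs hinj h1 fun z => ?_
  have h3 := h2 z
  simp only [LinearMap.add_apply, Module.End.one_apply] at h3
  rw [hg] at h3
  exact add_left_cancel h3

theorem Gen.one_add' {X Y : W →ₗ[K] W} (h : Gen X Y) : Gen (1 + X) Y := h.symm.one_add.symm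

end gen

section five

variable {K : Type u} [Field K] {V : Type v} [AddCommGroup V] [Module K V] {W : Type w} [AddCommGroup W] [Module K W]

/-- a homothety factor of a semilinear bijection on the range of an injective map can be chosen `≠ 0` -/
theorem unit_of {U : Type*} [AddCommGroup U] [Module K U] (ι : U →ₗ[K] V)
    (k : Equiv.Perm V) (hk0 : k 0 = 0) (c : K) (h : ∀ z, k (ι z) = c • ι z) : ∃ c : Kˣ, ∀ z, k (ι z) = (c : K) • ι z := by
  by_cases hc : c = 0
  · refine ⟨1, fun z => ?_⟩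
    have h1 : k (ι z) = k 0 := by rw [h, hc, zero_smul, hk0]
    have h2 : ι z = 0 := k.injective h1
    rw [h2, hk0, smul_zero]
  · exact ⟨Units.mk0 c hc, h⟩

theorem rigid2 (ι : W × W →ₗ[K] V) (hι : Function.Injective ι) (X Y : W →ₗ[K] W) (hXY : Gen X Y)
    (k : Equiv.Perm V) (hk : k ∈ Semi K V) (h0 : ∀ z, ∃ z', k (ι (z, 0)) = ι (z', 0))
    (h1 : ∀ z, ∃ z', k (ι (0, z)) = ι (0, z')) (h2 : ∀ z, ∃ z', k (ι (z, z)) = ι (z', z'))
    (h3 : ∀ z, ∃ z', k (ι (z, X z)) = ι (z', X z')) (h4 : ∀ z, ∃ z', k (ι (z, Y z)) = ι (z', Y z')) :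
    ∃ c : Kˣ, ∀ z, k (ι z) = (c : K) • ι z := by
  obtain ⟨hadd, σ, hs⟩ := hk
  have hk0 : k 0 = 0 := by simpa using hs 0 0
  choose g hg using h0
  choose g' hg' using h1
  have hgg : ∀ z, g z = g' z := by
    intro z
    obtain ⟨z', hz'⟩ := h2 z
    have e : (z, z) = ((z, 0) : W × W) + (0, z) := by simp
    rw [e, map_add, hadd, hg, hg', ← map_add] at hz'
    have := hι hz'
    simp only [Prod.mk_add_mk, add_zero, zero_add, Prod.mk.injEq] at this
    rw [this.1, this.2]
  have key : ∀ z w, k (ι (z, w)) = ι (g z, g w) := by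
    intro z w
    have e : (z, w) = ((z, 0) : W × W) + (0, w) := by simp
    rw [e, map_add, hadd, hg, hg', ← map_add, ← hgg]
    simp
  have gadd : ∀ z w, g (z + w) = g z + g w := by
    intro z w
    have h5 : k (ι (z + w, 0)) = ι (g z + g w, 0) := by
      have e : ((z + w, 0) : W × W) = (z, 0) + (w, 0) := by simp
      rw [e, map_add, hadd, hg, hg, ← map_add]
      simp
    rw [hg] at h5
    exact (Prod.mk.inj (hι h5)).1
  have gsmul : ∀ (c : K) z, g (c • z) = σ c • g z := by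
    intro c z
    have h5 : k (ι (c • z, 0)) = ι (σ c • g z, 0) := by
      have e : ((c • z, 0) : W × W) = c • (z, 0) := by simp
      rw [e, map_smul, hs, hg, ← map_smul]
      simp
    rw [hg] at h5
    exact (Prod.mk.inj (hι h5)).1
  have ginj : Function.Injective g := by
    intro z w h
    have h5 : k (ι (z, 0)) = k (ι (w, 0)) := by rw [hg, hg, h]
    exact (Prod.mk.inj (hι (k.injective h5))).1
  have gX : ∀ z, g (X z) = X (g z) := by
    intro z
    obtain ⟨z', hz'⟩ := h3 z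
    rw [key] at hz'
    have := Prod.mk.inj (hι hz')
    rw [this.1, this.2]
  have gY : ∀ z, g (Y z) = Y (g z) := by
    intro z
    obtain ⟨z', hz'⟩ := h4 z
    rw [key] at hz'
    have := Prod.mk.inj (hι hz')
    rw [this.1, this.2]
  obtain ⟨c, hc⟩ := hXY g σ gadd gsmul ginj gX gY
  refine unit_of ι k hk0 c fun z => ?_
  obtain ⟨z, w⟩ := z
  rw [key, hc, hc, ← map_smul]
  simp

theorem rigid3 (ι : W × W × W →ₗ[K] V) (hι : Function.Injective ι) (X Y : W →ₗ[K] W) (hXY : Gen X Y)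
    (k : Equiv.Perm V) (hk : k ∈ Semi K V) (h0 : ∀ z, ∃ z', k (ι (z, 0, 0)) = ι (z', 0, 0))
    (h1 : ∀ z, ∃ z', k (ι (0, z, 0)) = ι (0, z', 0)) (h2 : ∀ z, ∃ z', k (ι (0, 0, z)) = ι (0, 0, z'))
    (h3 : ∀ z, ∃ z', k (ι (z, z, z)) = ι (z', z', z')) (h4 : ∀ z, ∃ z', k (ι (z, X z, Y z)) = ι (z', X z', Y z')) :
    ∃ c : Kˣ, ∀ z, k (ι z) = (c : K) • ι z := by
  obtain ⟨hadd, σ, hs⟩ := hk
  have hk0 : k 0 = 0 := by simpa using hs 0 0
  choose g hg using h0
  choose g' hg' using h1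
  choose g'' hg'' using h2
  have hgg : ∀ z, g z = g' z ∧ g z = g'' z := by
    intro z
    obtain ⟨z', hz'⟩ := h3 z
    have e : (z, z, z) = ((z, 0, 0) : W × W × W) + (0, z, 0) + (0, 0, z) := by simp
    rw [e, map_add ι, hadd, map_add ι, hadd, hg, hg', hg'', ← map_add, ← map_add] at hz'
    have := hι hz'
    simp only [Prod.mk_add_mk, add_zero, zero_add, Prod.mk.injEq] at this
    rw [this.1, this.2.1, this.2.2]
    exact ⟨rfl, rfl⟩
  have key : ∀ z w t, k (ι (z, w, t)) = ι (g z, g w, g t) := by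
    intro z w t
    have e : (z, w, t) = ((z, 0, 0) : W × W × W) + (0, w, 0) + (0, 0, t) := by simp
    rw [e, map_add ι, hadd, map_add ι, hadd, hg, hg', hg'', ← map_add, ← map_add, ← (hgg w).1, ← (hgg t).2]
    simp
  have gadd : ∀ z w, g (z + w) = g z + g w := by
    intro z w
    have h5 : k (ι (z + w, 0, 0)) = ι (g z + g w, 0, 0) := by
      have e : ((z + w, 0, 0) : W × W × W) = (z, 0, 0) + (w, 0, 0) := by simp
      rw [e, map_add, hadd, hg, hg, ← map_add]
      simp
    rw [hg] at h5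
    exact (Prod.mk.inj (hι h5)).1
  have gsmul : ∀ (c : K) z, g (c • z) = σ c • g z := by
    intro c z
    have h5 : k (ι (c • z, 0, 0)) = ι (σ c • g z, 0, 0) := by
      have e : ((c • z, 0, 0) : W × W × W) = c • (z, 0, 0) := by simp
      rw [e, map_smul, hs, hg, ← map_smul]
      simp
    rw [hg] at h5
    exact (Prod.mk.inj (hι h5)).1
  have ginj : Function.Injective g := by
    intro z w h
    have h5 : k (ι (z, 0, 0)) = k (ι (w, 0, 0)) := by rw [hg, hg, h]
    exact (Prod.mk.inj (hι (k.injective h5))).1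
  have gXY : ∀ z, g (X z) = X (g z) ∧ g (Y z) = Y (g z) := by
    intro z
    obtain ⟨z', hz'⟩ := h4 z
    rw [key] at hz'
    have := Prod.mk.inj (hι hz')
    have h6 := Prod.mk.inj this.2
    rw [this.1, h6.1, h6.2]
    exact ⟨rfl, rfl⟩
  obtain ⟨c, hc⟩ := hXY g σ gadd gsmul ginj (fun z => (gXY z).1) fun z => (gXY z).2
  refine unit_of ι k hk0 c fun z => ?_
  obtain ⟨z, w, t⟩ := z
  rw [key, hc, hc, hc, ← map_smul]
  simp

theorem toeplitz {n : ℕ} (C : Fin (n + 1) → Fin (n + 1) → K)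
    (h1 : ∀ j l : Fin n, C j.castSucc l.castSucc = C j.succ l.succ) (h2 : ∀ j : Fin n, C j.castSucc (Fin.last n) = 0)
    (h3 : ∀ j : Fin n, C j.succ 0 = 0) : (∀ i l, i ≠ l → C i l = 0) ∧ ∀ i, C i i = C 0 0 := by
  have hgt : ∀ l i : Fin (n + 1), l < i → C i l = 0 := by
    intro l
    induction l using Fin.induction with
    | zero =>
      intro i hi
      obtain ⟨j, rfl⟩ := Fin.exists_succ_eq.2 (Fin.pos_iff_ne_zero.1 hi)
      exact h3 j
    | succ l ih =>
      intro i hi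
      obtain ⟨j, rfl⟩ := Fin.exists_succ_eq.2 (Fin.pos_iff_ne_zero.1 (lt_of_le_of_lt (Fin.zero_le _) hi))
      rw [← h1]
      exact ih _ (by simpa using hi)
  have hlt : ∀ l i : Fin (n + 1), i < l → C i l = 0 := by
    intro l
    induction l using Fin.reverseInduction with
    | last =>
      intro i hi
      obtain ⟨j, rfl⟩ := Fin.exists_castSucc_eq.2 (ne_of_lt hi)
      exact h2 j
    | cast l ih =>
      intro i hi
      obtain ⟨j, rfl⟩ := Fin.exists_castSucc_eq.2 (ne_of_lt (lt_of_lt_of_le hi (Fin.le_last _)))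
      rw [h1]
      exact ih _ (by simpa using hi)
  refine ⟨fun i l h => ?_, fun i => ?_⟩
  · rcases lt_or_gt_of_ne h with h | h
    · exact hlt _ _ h
    · exact hgt _ _ h
  · induction i using Fin.induction with
    | zero => rfl
    | succ j ih => rw [← h1, ih]

theorem rigid21 {n : ℕ} (b : Basis (Fin (n + 2)) K W) {γ : K}
    (hγ : ∀ σ : K ≃+* K, σ γ = γ → σ = RingEquiv.refl K) (hγ0 : γ ≠ 0)
    (ι : W × W × K →ₗ[K] V) (hι : Function.Injective ι)
    (X : W →ₗ[K] W) (hX0 : X (b 0) = 0) (hX : ∀ j : Fin (n + 1), X (b j.succ) = b j.castSucc)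
    (k : Equiv.Perm V) (hk : k ∈ Semi K V) (h0 : ∀ z, ∃ z', k (ι (z, 0, 0)) = ι (z', 0, 0))
    (h1 : ∀ z, ∃ z', k (ι (0, z, 0)) = ι (0, z', 0)) (h2 : ∀ z, ∃ z', k (ι (z, z, 0)) = ι (z', z', 0))
    (h3 : ∀ z, ∃ z', k (ι (z, X z, b.coord 0 z)) = ι (z', X z', b.coord 0 z'))
    (h4 : ∀ z, ∃ z', k (ι (z, X z + γ • z, b.coord 0 z)) = ι (z', X z' + γ • z', b.coord 0 z')) :
    ∃ c : Kˣ, ∀ z, k (ι z) = (c : K) • ι z := by
  obtain ⟨hadd, σ, hs⟩ := hk
  have hk0 : k 0 = 0 := by simpa using hs 0 0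
  choose g hg using h0
  choose g' hg' using h1
  have hgg : ∀ z, g z = g' z := by
    intro z
    obtain ⟨z', hz'⟩ := h2 z
    have e : (z, z, (0 : K)) = ((z, 0, 0) : W × W × K) + (0, z, 0) := by simp
    rw [e, map_add, hadd, hg, hg', ← map_add] at hz'
    have := hι hz'
    simp only [Prod.mk_add_mk, add_zero, zero_add, Prod.mk.injEq] at this
    rw [this.1, this.2.1]
  have gadd : ∀ z w, g (z + w) = g z + g w := by
    intro z w
    have h5 : k (ι (z + w, 0, 0)) = ι (g z + g w, 0, 0) := by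
      have e : ((z + w, 0, 0) : W × W × K) = (z, 0, 0) + (w, 0, 0) := by simp
      rw [e, map_add, hadd, hg, hg, ← map_add]
      simp
    rw [hg] at h5
    exact (Prod.mk.inj (hι h5)).1
  have gsmul : ∀ (c : K) z, g (c • z) = σ c • g z := by
    intro c z
    have h5 : k (ι (c • z, 0, 0)) = ι (σ c • g z, 0, 0) := by
      have e : ((c • z, 0, 0) : W × W × K) = c • (z, 0, 0) := by simp
      rw [e, map_smul, hs, hg, ← map_smul]
      simp
    rw [hg] at h5
    exact (Prod.mk.inj (hι h5)).1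
  have ginj : Function.Injective g := by
    intro z w h
    have h5 : k (ι (z, 0, 0)) = k (ι (w, 0, 0)) := by rw [hg, hg, h]
    exact (Prod.mk.inj (hι (k.injective h5))).1
  have g0 : g 0 = 0 := by simpa using gsmul 0 0
  -- the image of `(0,0,1)`
  obtain ⟨⟨u, u', μ⟩, hu⟩ : ∃ y : W × W × K, k (ι (0, 0, 1)) = ι y := by
    obtain ⟨z', hz'⟩ := h3 (b 0)
    have e : (b 0, X (b 0), b.coord 0 (b 0)) = ((b 0, 0, 0) : W × W × K) + (0, 0, 1) := by simp [hX0]
    rw [e, map_add, hadd, hg, ← eq_sub_iff_add_eq', ← map_sub] at hz'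
    exact ⟨_, hz'⟩
  have key : ∀ z w t, k (ι (z, w, t)) = ι (g z + σ t • u, g w + σ t • u', σ t * μ) := by
    intro z w t
    have e : (z, w, t) = ((z, 0, 0) : W × W × K) + (0, w, 0) + t • (0, 0, 1) := by simp
    rw [e, map_add ι, hadd, map_add ι, hadd, hg, hg', map_smul, hs, hu, ← map_add, ← map_smul, ← map_add, ← hgg w]
    simp
  have e3 : ∀ z, g (X z) + σ (b.coord 0 z) • u' = X (g z + σ (b.coord 0 z) • u) ∧
      σ (b.coord 0 z) * μ = b.coord 0 (g z + σ (b.coord 0 z) • u) := by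
    intro z
    obtain ⟨z', hz'⟩ := h3 z
    rw [key] at hz'
    have h5 := Prod.mk.inj (hι hz')
    have h6 := Prod.mk.inj h5.2
    rw [h5.1]
    exact h6
  have e4 : ∀ z, g (X z + γ • z) + σ (b.coord 0 z) • u' = X (g z + σ (b.coord 0 z) • u) +
      γ • (g z + σ (b.coord 0 z) • u) := by
    intro z
    obtain ⟨z', hz'⟩ := h4 z
    rw [key] at hz'
    have h5 := Prod.mk.inj (hι hz')
    have h6 := Prod.mk.inj h5.2
    rw [h5.1]
    exact h6.1
  have e5 : ∀ z, σ γ • g z = γ • (g z + σ (b.coord 0 z) • u) := by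
    intro z
    have h5 := e4 z
    rw [← (e3 z).1, gadd, gsmul, add_right_comm] at h5
    exact add_left_cancel h5
  have hσγ : σ γ = γ := by
    have h5 := e5 (b 1)
    have h6 : b.coord 0 (b 1) = 0 := by simp
    rw [h6, map_zero, zero_smul, add_zero] at h5
    have h7 : (σ γ - γ) • g (b 1) = 0 := by rw [sub_smul, h5, sub_self]
    rcases smul_eq_zero.1 h7 with h8 | h8
    · exact sub_eq_zero.1 h8
    · exact absurd (ginj (h8.trans g0.symm)) (b.ne_zero 1)
  have hσ := hγ σ hσγ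
  subst hσ
  have hu0 : u = 0 := by
    have h5 := e5 (b 0)
    simp only [RingEquiv.refl_apply] at h5
    have h6 : b.coord 0 (b 0) = 1 := by simp
    rw [h6, one_smul] at h5
    have h7 := smul_right_injective W hγ0 h5
    exact (left_eq_add.1 h7)
  subst hu0
  simp only [RingEquiv.refl_apply, smul_zero, add_zero] at e3
  -- Toeplitz
  have hXc : ∀ v, ∀ l : Fin (n + 1), b.repr (X v) l.castSucc = b.repr v l.succ := by
    intro v l
    have h5 : X v = ∑ i : Fin (n + 1), b.repr v i.succ • b i.castSucc := by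
      conv_lhs => rw [← b.sum_repr v]
      rw [map_sum, Fin.sum_univ_succ]
      simp [hX0, hX]
    rw [h5]
    simp [Finsupp.single_apply, Fin.castSucc_inj]
  have hXl : ∀ v, b.repr (X v) (Fin.last (n + 1)) = 0 := by
    intro v
    have h5 : X v = ∑ i : Fin (n + 1), b.repr v i.succ • b i.castSucc := by
      conv_lhs => rw [← b.sum_repr v]
      rw [map_sum, Fin.sum_univ_succ]
      simp [hX0, hX]
    rw [h5]
    simp [Fin.castSucc_ne_last]
  have hc0 : ∀ j : Fin (n + 1), b.coord 0 (b j.succ) = 0 := by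
    intro j
    simp
  have hgX : ∀ j : Fin (n + 1), g (b j.castSucc) = X (g (b j.succ)) := by
    intro j
    have h5 := (e3 (b j.succ)).1
    rw [hc0, zero_smul, add_zero, hX] at h5
    exact h5
  obtain ⟨hC1, hC2⟩ := toeplitz (fun i l => b.repr (g (b i)) l) (fun j l => by rw [hgX, hXc])
    (fun j => by rw [hgX, hXl]) (fun j => by
      have h5 := (e3 (b j.succ)).2
      rw [hc0, zero_mul] at h5
      simpa using h5.symm)
  have hall : ∀ i, g (b i) = b.repr (g (b 0)) 0 • b i := by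
    intro i
    apply b.repr.injective
    ext l
    by_cases hl : i = l
    · subst hl
      simpa using hC2 i
    · rw [hC1 i l hl]
      simp [hl]
  have hgc := semilin_eq_smul b gadd (fun c z => gsmul c z) hall
  set c := b.repr (g (b 0)) 0 with hc
  have hu' : u' = 0 := by
    have h5 := (e3 (b 0)).1
    rw [hX0, g0, hgc, map_smul, hX0] at h5
    simpa using h5
  have hμ : μ = c := by
    have h5 := (e3 (b 0)).2
    rw [hgc] at h5
    simpa using h5
  refine unit_of ι k hk0 c fun z => ?_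
  obtain ⟨z, w, t⟩ := z
  rw [key, hgc, hgc, hu', hμ, ← map_smul]
  simp [mul_comm]

/-- a parametrization of `V₀` in which `A` is the first block -/
theorem exists_split [Module.Finite K V] (A V₀ : Submodule K V) (hA : A ≤ V₀) (W₁ W₂ : Type*) [AddCommGroup W₁]
    [Module K W₁] [Module.Finite K W₁] [AddCommGroup W₂] [Module K W₂] [Module.Finite K W₂]
    (h1 : finrank K W₁ = finrank K A) (h2 : finrank K W₁ + finrank K W₂ = finrank K V₀) :
    ∃ ι : W₁ × W₂ →ₗ[K] V, Function.Injective ι ∧ LinearMap.range ι = V₀ ∧ ∀ v, v ∈ A ↔ ∃ z, ι (z, 0) = v := by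
  obtain ⟨C, hC⟩ := Submodule.exists_isCompl (A.comap V₀.subtype)
  have hA' : finrank K (A.comap V₀.subtype) = finrank K A :=
    LinearEquiv.finrank_eq (Submodule.comapSubtypeEquivOfLe hA)
  have hC' := Submodule.finrank_add_eq_of_isCompl hC
  let e₁ : W₁ ≃ₗ[K] (A.comap V₀.subtype) := LinearEquiv.ofFinrankEq _ _ (h1.trans hA'.symm)
  let e₂ : W₂ ≃ₗ[K] C := LinearEquiv.ofFinrankEq _ _ (by omega)
  let e : (W₁ × W₂) ≃ₗ[K] V₀ := (e₁.prodCongr e₂).trans (Submodule.prodEquivOfIsCompl _ _ hC)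
  refine ⟨V₀.subtype ∘ₗ (e : (W₁ × W₂) →ₗ[K] V₀), ?_, ?_, ?_⟩
  · exact V₀.injective_subtype.comp e.injective
  · rw [LinearMap.range_comp, LinearEquiv.range, Submodule.map_top, Submodule.range_subtype]
  · intro v
    have he : ∀ z, ((V₀.subtype ∘ₗ (e : (W₁ × W₂) →ₗ[K] V₀)) (z, 0) : V) = ((e₁ z : V₀) : V) := by
      intro z
      simp [e]
    constructor
    · intro hv
      refine ⟨e₁.symm ⟨⟨v, hA hv⟩, hv⟩, ?_⟩
      rw [he]
      simp
    · rintro ⟨z, rfl⟩
      rw [he]
      exact (e₁ z).2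

/-- semilinear bijections of `V` fixing all the `A i` are homotheties on `V₀` -/
def Rig (A : Fin 5 → Submodule K V) (V₀ : Submodule K V) : Prop :=
  ∀ k ∈ Semi K V, (∀ i, ∀ v ∈ A i, k v ∈ A i) → ∃ c : Kˣ, ∀ v ∈ V₀, k v = (c : K) • v

theorem rig_of {U : Type*} [AddCommGroup U] [Module K U] (V₀ : Submodule K V) (ι : U →ₗ[K] V)
    (hι : Function.Injective ι) (hr : LinearMap.range ι = V₀) (f : Fin 5 → (W →ₗ[K] U))
    (hf : ∀ i, Function.Injective (f i)) (h01 : ∀ z w, f 0 z = f 1 w → z = 0)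
    (hrig : ∀ k : Equiv.Perm V, k ∈ Semi K V → (∀ i z, ∃ z', k (ι (f i z)) = ι (f i z')) →
      ∃ c : Kˣ, ∀ z, k (ι z) = (c : K) • ι z) :
    ∃ B : Fin 5 → Submodule K V, B 0 = LinearMap.range (ι ∘ₗ f 0) ∧ Disjoint (B 0) (B 1) ∧
      (∀ i, B i ≤ V₀ ∧ finrank K (B i) = finrank K W) ∧ Rig B V₀ := by
  refine ⟨fun i => LinearMap.range (ι ∘ₗ f i), rfl, ?_, fun i => ⟨?_, ?_⟩, ?_⟩
  · rw [Submodule.disjoint_def]
    rintro _ ⟨z, rfl⟩ ⟨w, hw⟩
    have h1 := h01 z w (hι hw.symm)
    rw [h1, map_zero]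
  · rw [← hr]
    rintro _ ⟨z, rfl⟩
    exact ⟨_, rfl⟩
  · exact LinearMap.finrank_range_of_inj (hι.comp (hf i))
  · intro k hk hi
    obtain ⟨c, hc⟩ := hrig k hk fun i z => by
      obtain ⟨z', hz'⟩ := hi i (ι (f i z)) ⟨z, rfl⟩
      exact ⟨z', hz'.symm⟩
    refine ⟨c, ?_⟩
    rw [← hr]
    rintro _ ⟨z, rfl⟩
    exact hc z

/-- **RIGID5** in the interval `[A, V₀]` -/
theorem rigid5 [Finite K] [Module.Finite K V] (A V₀ : Submodule K V) (hA : A ≤ V₀) (a : ℕ) (ha : finrank K A = a)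
    (h : finrank K V₀ = 2 * a ∨ (2 ≤ a ∧ finrank K V₀ = 2 * a + 1) ∨ finrank K V₀ = 3 * a) :
    ∃ B : Fin 5 → Submodule K V, B 0 = A ∧ Disjoint (B 0) (B 1) ∧ (∀ i, B i ≤ V₀ ∧ finrank K (B i) = a) ∧
      Rig B V₀ := by
  obtain ⟨γ, hγ0, hγ⟩ := exists_gamma K
  rcases Nat.eq_zero_or_pos a with ha0 | ha0
  · -- `a = 0`
    subst ha0
    have hV : V₀ = ⊥ := by
      have : finrank K V₀ = 0 := by omega
      exact Submodule.finrank_eq_zero.1 this
    have hA0 : A = ⊥ := by rw [hV] at hA; exact le_bot_iff.1 hA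
    subst hV
    subst hA0
    refine ⟨fun _ => ⊥, rfl, disjoint_bot_left, fun i => ⟨le_rfl, finrank_bot K V⟩, fun k hk _ => ⟨1, ?_⟩⟩
    intro v hv
    rw [Submodule.mem_bot] at hv
    obtain ⟨hadd, σ, hs⟩ := hk
    have hk0 : k 0 = 0 := by simpa using hs 0 0
    rw [hv, hk0, smul_zero]
  obtain ⟨n, rfl⟩ : ∃ n, a = n + 1 := ⟨a - 1, by omega⟩
  let b := Pi.basisFun K (Fin (n + 1))
  let X : (Fin (n + 1) → K) →ₗ[K] (Fin (n + 1) → K) := b.constr K (Fin.cases 0 fun j => b j.castSucc)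
  let Y : (Fin (n + 1) → K) →ₗ[K] (Fin (n + 1) → K) := b.constr K (Fin.cases (γ • b (Fin.last n)) fun _ => 0)
  have hX0 : X (b 0) = 0 := by simp [X]
  have hX : ∀ j : Fin n, X (b j.succ) = b j.castSucc := by intro j; simp [X]
  have hY0 : Y (b 0) = γ • b (Fin.last n) := by simp [Y]
  have hY : ∀ j : Fin n, Y (b j.succ) = 0 := by intro j; simp [Y]
  have hgen : Gen X Y := gen_of b hγ hγ0 X Y hX hY0 hY
  have hW : finrank K (Fin (n + 1) → K) = n + 1 := by simp
  rcases h with h | ⟨h2, h⟩ | h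
  · obtain ⟨ι, hι, hr, hιA⟩ := exists_split A V₀ hA (Fin (n + 1) → K) (Fin (n + 1) → K) (by omega) (by omega)
    obtain ⟨B, hB0, hB1, hB, hrig⟩ := rig_of (W := Fin (n + 1) → K) V₀ ι hι hr
      ![LinearMap.inl K _ _, LinearMap.inr K _ _, LinearMap.prod LinearMap.id LinearMap.id,
        LinearMap.prod LinearMap.id X, LinearMap.prod LinearMap.id Y]
      (by
        intro i
        fin_cases i
        · exact LinearMap.inl_injective
        · exact LinearMap.inr_injective
        · exact fun z w h => (Prod.mk.inj h).1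
        · exact fun z w h => (Prod.mk.inj h).1
        · exact fun z w h => (Prod.mk.inj h).1)
      (fun z w h => (Prod.mk.inj h).1)
      (fun k hk hi => rigid2 ι hι X Y hgen k hk (fun z => by simpa using hi 0 z) (fun z => by simpa using hi 1 z)
        (fun z => by simpa using hi 2 z) (fun z => by simpa using hi 3 z) (fun z => by simpa using hi 4 z))
    refine ⟨B, ?_, hB1, fun i => ⟨(hB i).1, (hB i).2.trans hW⟩, hrig⟩
    rw [hB0]
    ext v
    rw [hιA]
    rfl
  · obtain ⟨m, rfl⟩ : ∃ m, n = m + 1 := ⟨n - 1, by omega⟩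
    obtain ⟨ι, hι, hr, hιA⟩ := exists_split A V₀ hA (Fin (m + 1 + 1) → K) ((Fin (m + 1 + 1) → K) × K) (by omega)
      (by rw [Module.finrank_prod, Module.finrank_self]; omega)
    obtain ⟨B, hB0, hB1, hB, hrig⟩ := rig_of (W := Fin (m + 1 + 1) → K) V₀ ι hι hr
      ![LinearMap.inl K _ _, LinearMap.inr K _ _ ∘ₗ LinearMap.inl K _ _,
        LinearMap.prod LinearMap.id (LinearMap.inl K _ _),
        LinearMap.prod LinearMap.id (LinearMap.prod X (b.coord 0)),
        LinearMap.prod LinearMap.id (LinearMap.prod (X + γ • LinearMap.id) (b.coord 0))]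
      (by
        intro i
        fin_cases i
        · exact LinearMap.inl_injective
        · exact LinearMap.inr_injective.comp LinearMap.inl_injective
        · exact fun z w h => (Prod.mk.inj h).1
        · exact fun z w h => (Prod.mk.inj h).1
        · exact fun z w h => (Prod.mk.inj h).1)
      (fun z w h => (Prod.mk.inj h).1)
      (fun k hk hi => rigid21 b hγ hγ0 ι hι X hX0 hX k hk (fun z => hi 0 z)
        (fun z => by simpa using hi 1 z)
        (fun z => by simpa using hi 2 z) (fun z => by simpa using hi 3 z) (fun z => by simpa using hi 4 z))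
    refine ⟨B, ?_, hB1, fun i => ⟨(hB i).1, (hB i).2.trans hW⟩, hrig⟩
    rw [hB0]
    ext v
    rw [hιA]
    rfl
  · obtain ⟨ι, hι, hr, hιA⟩ := exists_split A V₀ hA (Fin (n + 1) → K) ((Fin (n + 1) → K) × (Fin (n + 1) → K))
      (by omega) (by rw [Module.finrank_prod]; omega)
    obtain ⟨B, hB0, hB1, hB, hrig⟩ := rig_of (W := Fin (n + 1) → K) V₀ ι hι hr
      ![LinearMap.inl K _ _, LinearMap.inr K _ _ ∘ₗ LinearMap.inl K _ _, LinearMap.inr K _ _ ∘ₗ LinearMap.inr K _ _,
        LinearMap.prod LinearMap.id (LinearMap.prod LinearMap.id LinearMap.id),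
        LinearMap.prod LinearMap.id (LinearMap.prod X Y)]
      (by
        intro i
        fin_cases i
        · exact LinearMap.inl_injective
        · exact LinearMap.inr_injective.comp LinearMap.inl_injective
        · exact LinearMap.inr_injective.comp LinearMap.inr_injective
        · exact fun z w h => (Prod.mk.inj h).1
        · exact fun z w h => (Prod.mk.inj h).1)
      (fun z w h => (Prod.mk.inj h).1)
      (fun k hk hi => rigid3 ι hι X Y hgen k hk (fun z => hi 0 z) (fun z => by simpa using hi 1 z)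
        (fun z => by simpa using hi 2 z) (fun z => by simpa using hi 3 z) (fun z => by simpa using hi 4 z))
    refine ⟨B, ?_, hB1, fun i => ⟨(hB i).1, (hB i).2.trans hW⟩, hrig⟩
    rw [hB0]
    ext v
    rw [hιA]
    rfl

end five

section move

variable {K : Type u} [Field K] {V : Type v} [AddCommGroup V] [Module K V]

/-- moving a basis to another one by `SL(V)`, up to a scalar at one vector -/
theorem move_basis {ι : Type*} [Fintype ι] [DecidableEq ι] (b b' : Basis ι K V) (j : ι) :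
    ∃ x : V ≃ₗ[K] V, LinearMap.det (x : V →ₗ[K] V) = 1 ∧ (∀ i, i ≠ j → x (b i) = b' i) ∧
      ∃ c : Kˣ, x (b j) = (c : K) • b' j := by
  let y : V ≃ₗ[K] V := b.equiv b' (Equiv.refl ι)
  have hy : LinearMap.det (y : V →ₗ[K] V) ≠ 0 := (LinearEquiv.isUnit_det' y).ne_zero
  let w : ι → Kˣ := Function.update 1 j (Units.mk0 _ (inv_ne_zero hy))
  let z : V ≃ₗ[K] V := b'.equiv (b'.unitsSMul w) (Equiv.refl ι)
  have hz : LinearMap.det (z : V →ₗ[K] V) = (LinearMap.det (y : V →ₗ[K] V))⁻¹ := by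
    have h1 := b'.det_comp (z : V →ₗ[K] V) b'
    have h2 : ((z : V →ₗ[K] V) : V → V) ∘ b' = b'.unitsSMul w := by
      funext i
      simp [z]
    rw [h2, Module.Basis.det_unitsSMul_self, Module.Basis.det_self, mul_one] at h1
    rw [← h1]
    simp only [w]
    rw [Finset.prod_eq_single j]
    · simp
    · intro i _ hi
      simp [Function.update_of_ne hi]
    · intro h
      exact absurd (Finset.mem_univ j) h
  have hzb : ∀ i, z (b' i) = ((w i : Kˣ) : K) • b' i := by
    intro i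
    simp [z, Module.Basis.unitsSMul_apply, Units.smul_def]
  have hyb : ∀ i, y (b i) = b' i := by
    intro i
    simp [y]
  refine ⟨y.trans z, ?_, fun i hi => ?_, w j, ?_⟩
  · rw [LinearEquiv.coe_trans, LinearMap.det_comp, hz, inv_mul_cancel₀ hy]
  · rw [LinearEquiv.trans_apply, hyb, hzb]
    simp [w, Function.update_of_ne hi]
  · rw [LinearEquiv.trans_apply, hyb, hzb]

/-- the same, for all the vectors at once -/
theorem move_basis' {ι : Type*} [Fintype ι] (b b' : Basis ι K V) :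
    ∃ x : V ≃ₗ[K] V, LinearMap.det (x : V →ₗ[K] V) = 1 ∧ ∀ i, ∃ c : Kˣ, x (b i) = (c : K) • b' i := by
  classical
  rcases isEmpty_or_nonempty ι with h | ⟨⟨j⟩⟩
  · refine ⟨LinearEquiv.refl K V, ?_, fun i => h.elim i⟩
    simp
  · obtain ⟨x, hx, h1, h2⟩ := move_basis b b' j
    refine ⟨x, hx, fun i => ?_⟩
    by_cases hi : i = j
    · subst hi; exact h2
    · exact ⟨1, by simp [h1 i hi]⟩

theorem map_span_of {ι : Type*} (x : V ≃ₗ[K] V) (v v' : ι → V) (h : ∀ i, ∃ c : Kˣ, x (v i) = (c : K) • v' i) :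
    (Submodule.span K (Set.range v)).map (x : V →ₗ[K] V) = Submodule.span K (Set.range v') := by
  apply le_antisymm
  · rw [Submodule.map_span_le]
    rintro _ ⟨i, rfl⟩
    obtain ⟨c, hc⟩ := h i
    change x (v i) ∈ _
    rw [hc]
    exact Submodule.smul_mem _ _ (Submodule.subset_span ⟨i, rfl⟩)
  · rw [Submodule.span_le]
    rintro _ ⟨i, rfl⟩
    obtain ⟨c, hc⟩ := h i
    refine ⟨(c⁻¹ : Kˣ) • v i, Submodule.smul_mem _ _ (Submodule.subset_span ⟨i, rfl⟩), ?_⟩
    change x ((c⁻¹ : Kˣ) • v i) = v' i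
    rw [Units.smul_def, map_smul, hc, smul_smul, ← Units.val_mul, inv_mul_cancel, Units.val_one, one_smul]

/-- a basis adapted to `A ≤ B` -/
theorem exists_adapted [Module.Finite K V] (A B : Submodule K V) (hAB : A ≤ B) (a c d : ℕ) (hA : finrank K A = a)
    (hB : finrank K B = a + c) (hV : finrank K V = a + c + d) :
    ∃ b : Basis ((Fin a ⊕ Fin c) ⊕ Fin d) K V, Submodule.span K (Set.range fun i => b (Sum.inl (Sum.inl i))) = A ∧
      Submodule.span K (Set.range fun i => b (Sum.inl i)) = B := by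
  obtain ⟨ι, hι, hr, hιA⟩ := exists_split A B hAB (Fin a → K) (Fin c → K) (by simp [hA]) (by simp [hB])
  let e : Basis (Fin a ⊕ Fin c) K ((Fin a → K) × (Fin c → K)) := (Pi.basisFun K (Fin a)).prod (Pi.basisFun K (Fin c))
  let u : Fin a ⊕ Fin c → V := ι ∘ e
  have hu : LinearIndependent K u := e.linearIndependent.map' ι (LinearMap.ker_eq_bot.2 hι)
  have huB : Submodule.span K (Set.range u) = B := by
    rw [Set.range_comp, Submodule.span_image, e.span_eq, Submodule.map_top, hr]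
  have huA : Submodule.span K (Set.range fun i => u (Sum.inl i)) = A := by
    have h1 : (fun i => u (Sum.inl i)) = (ι ∘ₗ LinearMap.inl K (Fin a → K) (Fin c → K)) ∘ (Pi.basisFun K (Fin a)) := by
      funext i
      simp [u, e]
    rw [h1, Set.range_comp, Submodule.span_image, (Pi.basisFun K (Fin a)).span_eq, Submodule.map_top]
    ext v
    rw [hιA]
    rfl
  obtain ⟨D, hD⟩ := Submodule.exists_isCompl B
  have hD' := Submodule.finrank_add_eq_of_isCompl hD
  let bD : Basis (Fin d) K D := finBasisOfFinrankEq K D (by omega)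
  have hvD : LinearIndependent K (fun i => (bD i : V)) :=
    bD.linearIndependent.map' D.subtype (Submodule.ker_subtype D)
  have hsD : Submodule.span K (Set.range fun i => (bD i : V)) = D := by
    have h1 : (fun i => (bD i : V)) = D.subtype ∘ bD := rfl
    rw [h1, Set.range_comp, Submodule.span_image, bD.span_eq, Submodule.map_top, Submodule.range_subtype]
  have hli : LinearIndependent K (Sum.elim u fun i => (bD i : V)) :=
    hu.sum_type hvD (by rw [huB, hsD]; exact hD.disjoint)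
  have hsp : ⊤ ≤ Submodule.span K (Set.range (Sum.elim u fun i => (bD i : V))) := by
    rw [Set.Sum.elim_range, Submodule.span_union, huB, hsD, hD.sup_eq_top]
  refine ⟨Basis.mk hli hsp, ?_, ?_⟩
  · simpa using huA
  · simpa using huB

/-- moving flags by `SL(V)` -/
theorem move_flag [Module.Finite K V] (A B A' B' : Submodule K V) (hAB : A ≤ B) (hAB' : A' ≤ B')
    (hA : finrank K A = finrank K A') (hB : finrank K B = finrank K B') :
    ∃ x : V ≃ₗ[K] V, LinearMap.det (x : V →ₗ[K] V) = 1 ∧ A.map (x : V →ₗ[K] V) = A' ∧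
      B.map (x : V →ₗ[K] V) = B' := by
  have h1 : finrank K A ≤ finrank K B := Submodule.finrank_mono hAB
  have h2 : finrank K B ≤ finrank K V := Submodule.finrank_le B
  obtain ⟨b, hb1, hb2⟩ := exists_adapted A B hAB (finrank K A) (finrank K B - finrank K A)
    (finrank K V - finrank K B) rfl (by omega) (by omega)
  obtain ⟨b', hb1', hb2'⟩ := exists_adapted A' B' hAB' (finrank K A) (finrank K B - finrank K A)
    (finrank K V - finrank K B) hA.symm (by omega) (by omega)
  obtain ⟨x, hx, h⟩ := move_basis' b b'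
  refine ⟨x, hx, ?_, ?_⟩
  · rw [← hb1, ← hb1']
    exact map_span_of x _ _ fun i => h _
  · rw [← hb2, ← hb2']
    exact map_span_of x _ _ fun i => h _

/-- the form of `FiveV` used with invariant subspaces: if `g ∈ S` and all `xᵢ⁻¹ g xᵢ ∈ S` then `g` is a homothety
(`g` fixes `xᵢ A` for every `S`-invariant `A`). -/
theorem fiveV_of {S : Subgroup (Equiv.Perm V)} (x : Fin 4 → (V ≃ₗ[K] V))
    (hx : ∀ i, LinearMap.det ((x i : V ≃ₗ[K] V) : V →ₗ[K] V) = 1)
    (h : ∀ g ∈ S, (∀ i, ((x i).toEquiv : Equiv.Perm V)⁻¹ * g * ((x i).toEquiv : Equiv.Perm V) ∈ S) →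
      ∃ a : Kˣ, g = hm K V a) : FiveV K V S := by
  refine ⟨fun i => (x i).symm, fun i => ?_, fun g hg hi => h g hg fun i => hi i⟩
  rw [LinearEquiv.det_coe_symm, hx, inv_one]

/-- an invariant subspace of dimension `n/2`, `(n-1)/2 ≥ 2` or `n/3` -/
theorem fiveV_rigid [Finite K] [Module.Finite K V] (S : Subgroup (Equiv.Perm V)) (hS : S ≤ Semi K V)
    (A : Submodule K V) (hA : ∀ g ∈ S, ∀ w ∈ A, g w ∈ A) (a : ℕ) (ha : finrank K A = a)
    (h : finrank K V = 2 * a ∨ (2 ≤ a ∧ finrank K V = 2 * a + 1) ∨ finrank K V = 3 * a) : FiveV K V S := by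
  obtain ⟨B, hB0, -, hB, hrig⟩ := rigid5 A ⊤ le_top a ha (by rwa [finrank_top])
  have hx : ∀ i, ∃ x : V ≃ₗ[K] V, LinearMap.det (x : V →ₗ[K] V) = 1 ∧ A.map (x : V →ₗ[K] V) = B i := by
    intro i
    obtain ⟨x, h1, h2, -⟩ := move_flag A A (B i) (B i) le_rfl le_rfl (ha.trans (hB i).2.symm)
      (ha.trans (hB i).2.symm)
    exact ⟨x, h1, h2⟩
  choose x hx1 hx2 using hx
  refine fiveV_of (fun i => x i.succ) (fun i => hx1 _) fun g hg hi => ?_
  obtain ⟨c, hc⟩ := hrig g (hS hg) fun i v hv => by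
    rcases Fin.eq_zero_or_eq_succ i with rfl | ⟨j, rfl⟩
    · rw [hB0] at hv ⊢
      exact hA g hg v hv
    · rw [← hx2] at hv ⊢
      obtain ⟨w, hw, rfl⟩ := hv
      refine ⟨(x j.succ).symm (g (x j.succ w)), hA _ (hi j) w hw, ?_⟩
      simp
  exact ⟨c, Equiv.ext fun v => hc v Submodule.mem_top⟩

end move

section dual

variable {K : Type u} [Field K] {V : Type v} [AddCommGroup V] [Module K V]

/-- `g'` is the contragredient of the semilinear bijection `g` -/
def Ctr (g : Equiv.Perm V) (g' : Equiv.Perm (Dual K V)) : Prop :=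
  (∀ v w, g (v + w) = g v + g w) ∧ ∃ σ : K ≃+* K, (∀ (a : K) v, g (a • v) = σ a • g v) ∧ ∀ φ v, g' φ (g v) = σ (φ v)

theorem Ctr.left {g : Equiv.Perm V} {g' : Equiv.Perm (Dual K V)} (h : Ctr g g') : g ∈ Semi K V :=
  ⟨h.1, h.2.imp fun _ h => h.1⟩

theorem Ctr.right {g : Equiv.Perm V} {g' : Equiv.Perm (Dual K V)} (h : Ctr g g') : g' ∈ Semi K (Dual K V) := by
  obtain ⟨-, σ, -, h⟩ := h
  refine ⟨fun φ ψ => ?_, σ, fun a φ => ?_⟩
  · apply LinearMap.ext
    intro w
    obtain ⟨v, rfl⟩ := g.surjective w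
    rw [h, LinearMap.add_apply, LinearMap.add_apply, h, h, map_add]
  · apply LinearMap.ext
    intro w
    obtain ⟨v, rfl⟩ := g.surjective w
    rw [h, LinearMap.smul_apply, LinearMap.smul_apply, h, smul_eq_mul, map_mul, smul_eq_mul]

theorem Ctr.one : Ctr (1 : Equiv.Perm V) (1 : Equiv.Perm (Dual K V)) :=
  ⟨fun _ _ => rfl, RingEquiv.refl K, fun _ _ => rfl, fun _ _ => rfl⟩

theorem Ctr.mul {g h : Equiv.Perm V} {g' h' : Equiv.Perm (Dual K V)} (hg : Ctr g g') (hh : Ctr h h') :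
    Ctr (g * h) (g' * h') := by
  obtain ⟨hg0, σ, hg1, hg2⟩ := hg
  obtain ⟨hh0, τ, hh1, hh2⟩ := hh
  refine ⟨fun v w => ?_, τ.trans σ, fun a v => ?_, fun φ v => ?_⟩
  · change g (h (v + w)) = g (h v) + g (h w)
    rw [hh0, hg0]
  · change g (h (a • v)) = σ (τ a) • g (h v)
    rw [hh1, hg1]
  · change g' (h' φ) (g (h v)) = σ (τ (φ v))
    rw [hg2, hh2]

theorem Ctr.inv {g : Equiv.Perm V} {g' : Equiv.Perm (Dual K V)} (hg : Ctr g g') : Ctr g⁻¹ g'⁻¹ := by
  have hS := inv_mem hg.left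
  obtain ⟨hg0, σ, hg1, hg2⟩ := hg
  refine ⟨hS.1, σ.symm, fun a v => ?_, fun φ v => ?_⟩
  · apply g.injective
    rw [hg1]
    simp
  · obtain ⟨ψ, rfl⟩ := g'.surjective φ
    obtain ⟨w, rfl⟩ := g.surjective v
    rw [hg2]
    simp

theorem exists_ctr {g : Equiv.Perm V} (hg : g ∈ Semi K V) : ∃ g' : Equiv.Perm (Dual K V), Ctr g g' := by
  have hgi := inv_mem hg
  obtain ⟨h0, σ, h1⟩ := hg
  have h2 : ∀ (a : K) v, g⁻¹ (a • v) = σ.symm a • g⁻¹ v := by
    intro a v
    apply g.injective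
    rw [h1]
    simp
  refine ⟨⟨fun φ => ⟨⟨fun v => σ (φ (g⁻¹ v)), fun v w => ?_⟩, fun a v => ?_⟩,
    fun φ => ⟨⟨fun v => σ.symm (φ (g v)), fun v w => ?_⟩, fun a v => ?_⟩, fun φ => ?_, fun φ => ?_⟩,
    h0, σ, h1, fun φ v => ?_⟩
  · rw [hgi.1, map_add, map_add]
  · simp [h2]
  · rw [h0, map_add, map_add]
  · simp [h1]
  · apply LinearMap.ext
    intro v
    simp
  · apply LinearMap.ext
    intro v
    simp
  · simp

theorem Ctr.unique {g : Equiv.Perm V} {g' g'' : Equiv.Perm (Dual K V)} (h1 : Ctr g g') (h2 : Ctr g g'') :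
    g' = g'' := by
  obtain ⟨-, σ, h1s, h1⟩ := h1
  obtain ⟨-, τ, h2s, h2⟩ := h2
  apply Equiv.ext
  intro φ
  apply LinearMap.ext
  intro w
  obtain ⟨v, rfl⟩ := g.surjective w
  rw [h1, h2]
  have h3 := (h1s (φ v) v).symm.trans (h2s (φ v) v)
  have h4 : (σ (φ v) - τ (φ v)) • g v = 0 := by rw [sub_smul, h3, sub_self]
  rcases smul_eq_zero.1 h4 with h5 | h5
  · exact sub_eq_zero.1 h5
  · have h6 : v = 0 := by
      apply g.injective
      rw [h5]
      have := h1s 0 0
      simp only [smul_zero, map_zero, zero_smul] at this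
      exact this.symm
    rw [h6]
    simp

/-- the contragredient representation -/
noncomputable def ctrHom (K : Type u) [Field K] (V : Type v) [AddCommGroup V] [Module K V] :
    Semi K V →* Equiv.Perm (Dual K V) where
  toFun g := (exists_ctr g.2).choose
  map_one' := (exists_ctr (1 : Semi K V).2).choose_spec.unique Ctr.one
  map_mul' g h := (exists_ctr (g * h).2).choose_spec.unique
    ((exists_ctr g.2).choose_spec.mul (exists_ctr h.2).choose_spec)

theorem ctrHom_spec (g : Semi K V) : Ctr (g : Equiv.Perm V) (ctrHom K V g) := (exists_ctr g.2).choose_spec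

theorem mem_ctr (S : Subgroup (Equiv.Perm V)) (hS : S ≤ Semi K V) (g' : Equiv.Perm (Dual K V)) :
    g' ∈ (S.subgroupOf (Semi K V)).map (ctrHom K V) ↔ ∃ g ∈ S, Ctr g g' := by
  constructor
  · rintro ⟨g, hg, rfl⟩
    exact ⟨g, hg, ctrHom_spec g⟩
  · rintro ⟨g, hg, hgg⟩
    exact ⟨⟨g, hS hg⟩, hg, (ctrHom_spec ⟨g, hS hg⟩).unique hgg⟩

/-- **Duality** -/
theorem dual_five [Module.Finite K V] (S : Subgroup (Equiv.Perm V)) (hS : S ≤ Semi K V) (hh : ∀ a, hm K V a ∈ S)
    (hsol : Group.IsSolvable S) :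
    ∃ S' : Subgroup (Equiv.Perm (Dual K V)), S' ≤ Semi K (Dual K V) ∧ (∀ a, hm K (Dual K V) a ∈ S') ∧
      Group.IsSolvable S' ∧
      (∀ W : Submodule K V, (∀ g ∈ S, ∀ w ∈ W, g w ∈ W) ↔
        ∀ g ∈ S', ∀ φ ∈ W.dualAnnihilator, g φ ∈ W.dualAnnihilator) ∧
      (FiveV K (Dual K V) S' → FiveV K V S) := by
  refine ⟨(S.subgroupOf (Semi K V)).map (ctrHom K V), ?_, ?_, ?_, ?_, ?_⟩
  · intro g' hg'
    obtain ⟨g, -, hg⟩ := (mem_ctr S hS g').1 hg'
    exact hg.right
  · intro a
    rw [mem_ctr S hS]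
    refine ⟨hm K V a⁻¹, hh _, fun v w => ?_, RingEquiv.refl K, fun c v => ?_, fun φ v => ?_⟩
    · simp only [hm_apply, smul_add]
    · simp only [hm_apply, RingEquiv.refl_apply, smul_comm c]
    · simp only [hm_apply, LinearMap.smul_apply, map_smul, smul_smul, RingEquiv.refl_apply, Units.inv_mul, one_smul]
  · have h1 : Group.IsSolvable (S.subgroupOf (Semi K V)) := by
      refine Group.isSolvable_of_isSolvable_injective (G' := S)
        (f := ((Semi K V).subtype.comp (S.subgroupOf (Semi K V)).subtype).codRestrict S fun g => g.2) ?_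
      intro g h hgh
      have h2 : ((g : Semi K V) : Equiv.Perm V) = ((h : Semi K V) : Equiv.Perm V) :=
        congrArg (Subtype.val : S → Equiv.Perm V) hgh
      exact Subtype.ext (Subtype.ext h2)
    exact Group.isSolvable_of_surjective ((ctrHom K V).subgroupMap_surjective (S.subgroupOf (Semi K V)))
  · intro W
    constructor
    · intro hW g' hg' φ hφ
      obtain ⟨g, hg, -, σ, -, hgg⟩ := (mem_ctr S hS g').1 hg'
      rw [Submodule.mem_dualAnnihilator] at hφ ⊢
      intro w hw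
      obtain ⟨v, rfl⟩ := g.surjective w
      have hv : v ∈ W := by
        have := hW _ (inv_mem hg) _ hw
        simpa using this
      rw [hgg, hφ v hv, map_zero]
    · intro hW g hg w hw
      rw [← Subspace.forall_mem_dualAnnihilator_apply_eq_zero_iff]
      intro φ hφ
      obtain ⟨-, σ, -, hgg⟩ := ctrHom_spec (⟨g, hS hg⟩ : Semi K V)
      have hg' : ctrHom K V ⟨g, hS hg⟩ ∈ (S.subgroupOf (Semi K V)).map (ctrHom K V) := ⟨_, hg, rfl⟩
      have h1 := hW _ (inv_mem hg') φ hφ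
      have h2 := hgg ((ctrHom K V ⟨g, hS hg⟩)⁻¹ φ) w
      have h3 : (ctrHom K V ⟨g, hS hg⟩) ((ctrHom K V ⟨g, hS hg⟩)⁻¹ φ) = φ :=
        (ctrHom K V ⟨g, hS hg⟩).apply_symm_apply φ
      rw [h3] at h2
      rw [(Submodule.mem_dualAnnihilator _).1 h1 w hw, map_zero] at h2
      exact h2
  · rintro ⟨x', hx', hx⟩
    let e : V ≃ₗ[K] Dual K (Dual K V) := Module.evalEquiv K V
    let x : Fin 4 → (V ≃ₗ[K] V) := fun i => e.trans ((x' i).symm.dualMap.trans e.symm)
    have hxx : ∀ i φ v, (x' i φ) (x i v) = φ v := by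
      intro i φ v
      have h1 : e (x i v) = (x' i).symm.dualMap (e v) := by
        simp [x]
      have h2 : ∀ (ψ : Dual K V) (u : V), e u ψ = ψ u := fun ψ u => rfl
      rw [← h2, h1]
      change e v ((x' i).symm (x' i φ)) = φ v
      rw [LinearEquiv.symm_apply_apply, h2]
    have hctr : ∀ i, Ctr (((x i).toEquiv : Equiv.Perm V)) (((x' i).toEquiv : Equiv.Perm (Dual K V))) := by
      intro i
      refine ⟨fun v w => map_add (x i) v w, RingEquiv.refl K, fun a v => map_smul (x i) a v, fun φ v => ?_⟩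
      exact hxx i φ v
    refine ⟨x, fun i => ?_, fun g hg hi => ?_⟩
    · have h1 : ((x i : V ≃ₗ[K] V) : V →ₗ[K] V) = (e.symm : Dual K (Dual K V) →ₗ[K] V) ∘ₗ
          (((x' i).symm : Dual K V →ₗ[K] Dual K V)).dualMap ∘ₗ ((e.symm.symm : V ≃ₗ[K] _) : V →ₗ[K] _) := by
        rfl
      rw [h1, LinearMap.det_conj, LinearMap.det_dualMap, LinearEquiv.det_coe_symm, hx', inv_one]
    · obtain ⟨g', hg'⟩ := exists_ctr (hS hg)
      obtain ⟨a, ha⟩ := hx g' ((mem_ctr S hS g').2 ⟨g, hg, hg'⟩) fun i =>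
        (mem_ctr S hS _).2 ⟨_, hi i, ((hctr i).mul hg').mul (hctr i).inv⟩
      subst ha
      obtain ⟨-, σ, hs, hgg⟩ := hg'
      refine ⟨a⁻¹, ?_⟩
      apply Equiv.ext
      intro v
      rw [hm_apply]
      -- `σ = 1` if `V ≠ 0`
      have h0 : ∀ c : K, ∀ φ : Dual K V, ∀ v, σ c * φ (g v) = c * φ (g v) := by
        intro c φ v
        have h1 : (a : K) * (σ c * φ (g v)) = σ (c * φ v) := by
          have h5 := hgg φ (c • v)
          rw [hs, map_smul φ, smul_eq_mul] at h5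
          rw [← h5, hm_apply, LinearMap.smul_apply, map_smul, smul_eq_mul, smul_eq_mul]
        have h2 : (a : K) * (c * φ (g v)) = σ (c * φ v) := by
          have h5 := hgg (c • φ) v
          rw [LinearMap.smul_apply, smul_eq_mul] at h5
          rw [← h5, hm_apply, LinearMap.smul_apply, LinearMap.smul_apply, smul_eq_mul, smul_eq_mul]
        have h3 : (a : K) * (σ c * φ (g v) - c * φ (g v)) = 0 := by linear_combination h1 - h2
        rcases mul_eq_zero.1 h3 with h4 | h4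
        · exact absurd h4 a.ne_zero
        · exact sub_eq_zero.1 h4
      by_cases hv : g v = 0
      · have h1 : v = 0 := by
          apply g.injective
          rw [hv]
          have := hs 0 0
          simp only [smul_zero, map_zero, zero_smul] at this
          exact this.symm
        rw [h1, smul_zero]
        rw [h1] at hv
        exact hv
      · have hσ : ∀ c, σ c = c := by
          intro c
          by_contra hc
          apply hv
          rw [← Module.forall_dual_apply_eq_zero_iff K]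
          intro φ
          have h1 := h0 c φ v
          have h2 : (σ c - c) * φ (g v) = 0 := by rw [sub_mul, h1, sub_self]
          rcases mul_eq_zero.1 h2 with h3 | h3
          · exact absurd (sub_eq_zero.1 h3) hc
          · exact h3
        have h1 : (a : K) • g v = v := by
          rw [← sub_eq_zero, ← Module.forall_dual_apply_eq_zero_iff K]
          intro φ
          have h2 := hgg φ v
          rw [hσ] at h2
          simp only [hm_apply, LinearMap.smul_apply] at h2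
          rw [map_sub, map_smul, h2, sub_self]
        conv_rhs => rw [← h1]
        rw [smul_smul, ← Units.val_mul, inv_mul_cancel, Units.val_one, one_smul]

end dual

end Cfsg.Agent.H246.FC
end

-- part: H246/FC/Three
section
/-!
# S5764 [RED-III]: `red_three` (helper246)

`A < B` consecutive invariant subspaces with a 3-base on `B / A`, `a = dim A < n / 2`, `c = n - dim B`:
the case `a - c ≥ 3` and the case `(a, c) = (3, 1)`.
-/

set_option autoImplicit false

namespace Cfsg.Agent.H246.FC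

open Cfsg.Agent.H198.FC Cfsg.Agent.H754.FC Module

universe u v

variable {K : Type u} [Field K] {V : Type v} [AddCommGroup V] [Module K V]

/-- an intermediate subspace of given dimension -/
theorem exists_between' [Module.Finite K V] (U B : Submodule K V) (hUB : U ≤ B) (m : ℕ) (h1 : finrank K U ≤ m)
    (h2 : m ≤ finrank K B) : ∃ C, U ≤ C ∧ C ≤ B ∧ finrank K C = m := by
  induction m, h1 using Nat.le_induction with
  | base => exact ⟨U, le_rfl, hUB, rfl⟩
  | succ m hm ih =>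
    obtain ⟨C, hUC, hCB, hC⟩ := ih (by omega)
    have h3 : ∃ v ∈ B, v ∉ C := by
      by_contra hcon
      push Not at hcon
      have h4 : B ≤ C := hcon
      have h5 := Submodule.finrank_mono h4
      omega
    obtain ⟨v, hv, hvC⟩ := h3
    refine ⟨C ⊔ Submodule.span K {v}, hUC.trans le_sup_left, sup_le hCB ?_, ?_⟩
    · rw [Submodule.span_singleton_le_iff_mem]
      exact hv
    · rw [Submodule.finrank_sup_span_singleton hvC, hC]

theorem sec_move {S : Subgroup (Equiv.Perm V)} {A B : Submodule K V} {w : Fin 3 → V} (h : Sec S A B w)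
    (y : V ≃ₗ[K] V) (k : Equiv.Perm V) (hk : (y.toEquiv : Equiv.Perm V)⁻¹ * k * (y.toEquiv : Equiv.Perm V) ∈ S)
    (c : Kˣ) (hw : ∀ j, k (y (w j)) = (c : K) • y (w j)) :
    ∀ u ∈ B.map (y : V →ₗ[K] V), k u - (c : K) • u ∈ A.map (y : V →ₗ[K] V) := by
  rintro _ ⟨v, hv, rfl⟩
  have e : ∀ v, ((y.toEquiv : Equiv.Perm V)⁻¹ * k * (y.toEquiv : Equiv.Perm V)) v = y.symm (k (y v)) := fun v => rfl
  have h1 := h.scalar hk (c := c) (fun j => by
    rw [e, hw, map_smul, y.symm_apply_apply, sub_self]; exact A.zero_mem) v hv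
  refine ⟨_, h1, ?_⟩
  rw [e]
  simp

theorem ext_top {g : Equiv.Perm V} (hg : g ∈ Semi K V) {c : Kˣ} {V₀ A B : Submodule K V}
    (h0 : ∀ v ∈ V₀, g v = (c : K) • v) (hB : ∀ v ∈ B, g v - (c : K) • v ∈ A) (ht : V₀ ⊔ B = ⊤) :
    ∀ v, g v - (c : K) • v ∈ A := by
  intro v
  have hv : v ∈ V₀ ⊔ B := by rw [ht]; exact Submodule.mem_top
  obtain ⟨x, hx, b, hb, rfl⟩ := Submodule.mem_sup.1 hv
  rw [semi_add hg, h0 x hx, smul_add, add_sub_add_left_eq_sub]
  exact hB b hb

/-- the move back of an element fixing a subspace -/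
theorem fix_move {S : Subgroup (Equiv.Perm V)} {A A' : Submodule K V} (hA : ∀ g ∈ S, ∀ v ∈ A, g v ∈ A)
    (y : V ≃ₗ[K] V) (hy : A.map (y : V →ₗ[K] V) = A') (k : Equiv.Perm V)
    (hk : (y.toEquiv : Equiv.Perm V)⁻¹ * k * (y.toEquiv : Equiv.Perm V) ∈ S) : ∀ v ∈ A', k v ∈ A' := by
  subst hy
  rintro _ ⟨v, hv, rfl⟩
  refine ⟨y.symm (k (y v)), hA _ hk v hv, ?_⟩
  simp

theorem finrank_U [Module.Finite K V] (A : Submodule K V) (w : Fin 3 → V) :
    finrank K (A ⊔ Submodule.span K (Set.range w) : Submodule K V) ≤ finrank K A + 3 := by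
  have h1 := Submodule.finrank_add_le_finrank_add_finrank A (Submodule.span K (Set.range w))
  have h2 := finrank_range_le_card (R := K) w
  rw [Fintype.card_fin] at h2
  change finrank K (Submodule.span K (Set.range w)) ≤ 3 at h2
  omega

/-- case (III): `a ≥ c + 3` -/
theorem red_three_a [Finite K] [Module.Finite K V] {S : Subgroup (Equiv.Perm V)} {A B : Submodule K V} {w : Fin 3 → V}
    (h : Sec S A B w) (c : ℕ) (hc : finrank K B + c = finrank K V) (hn : 2 * finrank K A < finrank K V)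
    (h3 : c + 3 ≤ finrank K A) : FiveV K V S := by
  have hU1 := finrank_U A w
  have hUB : A ⊔ Submodule.span K (Set.range w) ≤ B :=
    sup_le h.le (Submodule.span_le.2 (by rintro _ ⟨j, rfl⟩; exact h.mem j))
  obtain ⟨C, hUC, hCB, hC⟩ := exists_between' (A ⊔ Submodule.span K (Set.range w)) B hUB (2 * finrank K A - c)
    (by omega) (by omega)
  obtain ⟨D, hD⟩ := Submodule.exists_isCompl B
  have hD' := Submodule.finrank_add_eq_of_isCompl hD
  have hCD : Disjoint C D := hD.disjoint.mono_left hCB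
  have hV0 : finrank K (C ⊔ D : Submodule K V) = 2 * finrank K A := by
    have := Submodule.finrank_sup_add_finrank_inf_eq C D
    rw [hCD.eq_bot, finrank_bot] at this
    omega
  have hVB : (C ⊔ D) ⊔ B = ⊤ := by
    rw [sup_assoc, sup_comm D B, ← sup_assoc, sup_eq_right.2 hCB, hD.sup_eq_top]
  have hAV : A ≤ C ⊔ D := le_sup_left.trans (hUC.trans le_sup_left)
  have hwV : ∀ j, w j ∈ C ⊔ D := fun j =>
    (le_sup_right.trans (hUC.trans le_sup_left) : Submodule.span K (Set.range w) ≤ C ⊔ D)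
      (Submodule.subset_span ⟨j, rfl⟩)
  obtain ⟨A', hA0, hA1, hA', hrig⟩ := rigid5 A (C ⊔ D) hAV (finrank K A) rfl (Or.inl hV0)
  have hy : ∀ i, ∃ y : V ≃ₗ[K] V, LinearMap.det (y : V →ₗ[K] V) = 1 ∧ A.map (y : V →ₗ[K] V) = A' i ∧
      (C ⊔ D).map (y : V →ₗ[K] V) = C ⊔ D := fun i =>
    move_flag A (C ⊔ D) (A' i) (C ⊔ D) hAV (hA' i).1 (hA' i).2.symm rfl
  choose y hy1 hy2 hy3 using hy
  refine fiveV_of (fun i => y i.succ) (fun i => hy1 _) fun g hg hi => ?_
  have hgS := h.semi hg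
  obtain ⟨l, hl⟩ := hrig g hgS fun i v hv => by
    rcases Fin.eq_zero_or_eq_succ i with rfl | ⟨j, rfl⟩
    · rw [hA0] at hv ⊢
      exact h.invA g hg v hv
    · exact fix_move h.invA (y j.succ) (hy2 _) g (hi j) v hv
  have h1 : ∀ v, g v - (l : K) • v ∈ A := ext_top hgS hl
    (h.scalar hg fun j => by rw [hl _ (hwV j), sub_self]; exact A.zero_mem) hVB
  have h2 : ∀ v, g v - (l : K) • v ∈ A' 1 := by
    refine ext_top hgS (B := B.map (y 1 : V →ₗ[K] V)) hl ?_ ?_
    · intro u hu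
      rw [← hy2 1]
      refine sec_move h (y 1) g (hi 0) l (fun j => hl _ ?_) u hu
      rw [← hy3 1]
      exact ⟨w j, hwV j, rfl⟩
    · conv_lhs => rw [← hy3 1]
      rw [← Submodule.map_sup, hVB, Submodule.map_top, LinearEquiv.range]
  refine ⟨l, Equiv.ext fun v => ?_⟩
  have h3 := (Submodule.disjoint_def.1 hA1) _ (by rw [hA0]; exact h1 v) (h2 v)
  exact sub_eq_zero.1 h3

/-- RIGID5(a, 2a) with two pairs of complements -/
theorem rigid5_two [Finite K] [Module.Finite K V] (A V₀ : Submodule K V) (hA : A ≤ V₀) (a : ℕ) (ha : finrank K A = a)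
    (ha0 : 1 ≤ a) (h : finrank K V₀ = 2 * a) :
    ∃ B : Fin 5 → Submodule K V, B 0 = A ∧ Disjoint (B 0) (B 1) ∧ Disjoint (B 2) (B 3) ∧
      (∀ i, B i ≤ V₀ ∧ finrank K (B i) = a) ∧ Rig B V₀ := by
  obtain ⟨γ, hγ0, hγ⟩ := exists_gamma K
  obtain ⟨n, rfl⟩ : ∃ n, a = n + 1 := ⟨a - 1, by omega⟩
  let b := Pi.basisFun K (Fin (n + 1))
  let X : (Fin (n + 1) → K) →ₗ[K] (Fin (n + 1) → K) := b.constr K (Fin.cases 0 fun j => b j.castSucc)
  let Y : (Fin (n + 1) → K) →ₗ[K] (Fin (n + 1) → K) := b.constr K (Fin.cases (γ • b (Fin.last n)) fun _ => 0)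
  have hX0 : X (b 0) = 0 := by simp [X]
  have hX : ∀ j : Fin n, X (b j.succ) = b j.castSucc := by intro j; simp [X]
  have hY0 : Y (b 0) = γ • b (Fin.last n) := by simp [Y]
  have hY : ∀ j : Fin n, Y (b j.succ) = 0 := by intro j; simp [Y]
  have hgen : Gen X Y := gen_of b hγ hγ0 X Y hX hY0 hY
  have hW : finrank K (Fin (n + 1) → K) = n + 1 := by simp
  -- `X z = z` implies `z = 0`
  have hX1 : ∀ z, X z = z → z = 0 := by
    intro z hz
    have h5 : X z = ∑ i : Fin n, b.repr z i.succ • b i.castSucc := by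
      conv_lhs => rw [← b.sum_repr z]
      rw [map_sum, Fin.sum_univ_succ]
      simp [hX0, hX]
    have h6 : ∀ i : Fin (n + 1), b.repr z i = 0 := by
      intro i
      induction i using Fin.reverseInduction with
      | last =>
        rw [← hz, h5]
        simp [Fin.castSucc_ne_last]
      | cast j ih =>
        conv_lhs => rw [← hz, h5]
        simp [Finsupp.single_apply, Fin.castSucc_inj]
        simpa using ih
    apply b.repr.injective
    ext i
    rw [h6, map_zero, Finsupp.zero_apply]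
  obtain ⟨ι, hι, hr, hιA⟩ := exists_split A V₀ hA (Fin (n + 1) → K) (Fin (n + 1) → K) (by omega) (by omega)
  let f : Fin 5 → ((Fin (n + 1) → K) →ₗ[K] (Fin (n + 1) → K) × (Fin (n + 1) → K)) :=
    ![LinearMap.inl K _ _, LinearMap.inr K _ _, LinearMap.prod LinearMap.id LinearMap.id,
      LinearMap.prod LinearMap.id X, LinearMap.prod LinearMap.id Y]
  have hf : ∀ i, Function.Injective (f i) := by
    intro i
    fin_cases i
    · exact LinearMap.inl_injective
    · exact LinearMap.inr_injective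
    · exact fun z w h => (Prod.mk.inj h).1
    · exact fun z w h => (Prod.mk.inj h).1
    · exact fun z w h => (Prod.mk.inj h).1
  refine ⟨fun i => LinearMap.range (ι ∘ₗ f i), ?_, ?_, ?_, fun i => ⟨?_, ?_⟩, ?_⟩
  · ext v
    rw [hιA]
    rfl
  · rw [Submodule.disjoint_def]
    rintro _ ⟨z, rfl⟩ ⟨w, hw⟩
    have h1 : z = 0 := (Prod.mk.inj (hι hw.symm)).1
    rw [h1, map_zero]
  · rw [Submodule.disjoint_def]
    rintro _ ⟨z, rfl⟩ ⟨w, hw⟩
    have h1 := Prod.mk.inj (hι hw.symm)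
    have h2 : z = w := h1.1
    have h3 : z = X w := h1.2
    have h4 : z = 0 := hX1 z (by rw [h2] at h3; rw [h2]; exact h3.symm)
    rw [h4, map_zero]
  · rw [← hr]
    rintro _ ⟨z, rfl⟩
    exact ⟨_, rfl⟩
  · have h9 : Function.Injective (ι ∘ₗ f i) := hι.comp (hf i)
    exact (LinearMap.finrank_range_of_inj h9).trans hW
  · intro k hk hi
    have hi' : ∀ i z, ∃ z', k (ι (f i z)) = ι (f i z') := fun i z => by
      obtain ⟨z', hz'⟩ := hi i (ι (f i z)) ⟨z, rfl⟩
      exact ⟨z', hz'.symm⟩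
    obtain ⟨c, hc⟩ := rigid2 ι hι X Y hgen k hk (fun z => by simpa [f] using hi' 0 z)
      (fun z => by simpa [f] using hi' 1 z) (fun z => by simpa [f] using hi' 2 z)
      (fun z => by simpa [f] using hi' 3 z) (fun z => by simpa [f] using hi' 4 z)
    refine ⟨c, ?_⟩
    rw [← hr]
    rintro _ ⟨z, rfl⟩
    exact hc z

/-- extending an adapted independent family from `B` to `C` -/
theorem ext_step [Module.Finite K V] {ι : Type*} (u : ι → V) (hu : LinearIndependent K u) (B C : Submodule K V)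
    (hB : Submodule.span K (Set.range u) = B) (hBC : B ≤ C) (d : ℕ) (hd : finrank K B + d = finrank K C) :
    ∃ t : Fin d → V, LinearIndependent K (Sum.elim u t) ∧ Submodule.span K (Set.range (Sum.elim u t)) = C := by
  obtain ⟨κ, hκ, hr, hκB⟩ := exists_split B C hBC B (Fin d → K) rfl (by simpa using hd)
  let t : Fin d → V := fun i => κ (0, Pi.basisFun K (Fin d) i)
  have h1 : t = (κ ∘ₗ LinearMap.inr K B (Fin d → K)) ∘ (Pi.basisFun K (Fin d)) := by
    funext i
    simp [t]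
  have ht : LinearIndependent K t := by
    rw [h1]
    exact (Pi.basisFun K (Fin d)).linearIndependent.map' _
      (LinearMap.ker_eq_bot.2 (hκ.comp LinearMap.inr_injective))
  have hts : Submodule.span K (Set.range t) = LinearMap.range (κ ∘ₗ LinearMap.inr K B (Fin d → K)) := by
    rw [h1, Set.range_comp, Submodule.span_image, (Pi.basisFun K (Fin d)).span_eq, Submodule.map_top]
  have hdis : Disjoint B (LinearMap.range (κ ∘ₗ LinearMap.inr K B (Fin d → K))) := by
    rw [Submodule.disjoint_def]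
    rintro x hx ⟨z, hz⟩
    obtain ⟨y, hy⟩ := (hκB x).1 hx
    have h2 : κ (0, z) = κ (y, 0) := by rw [hy, ← hz]; rfl
    have h3 := (Prod.mk.inj (hκ h2)).2
    rw [← hz, h3, map_zero]
  refine ⟨t, hu.sum_type ht (by rw [hB, hts]; exact hdis), ?_⟩
  rw [Set.Sum.elim_range, Submodule.span_union, hB, hts, ← hr]
  apply le_antisymm
  · refine sup_le ?_ ?_
    · intro x hx
      obtain ⟨y, hy⟩ := (hκB x).1 hx
      exact ⟨_, hy⟩
    · rintro _ ⟨z, rfl⟩
      exact ⟨_, rfl⟩
  · rintro _ ⟨⟨y, z⟩, rfl⟩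
    refine Submodule.mem_sup.2 ⟨κ (y, 0), (hκB _).2 ⟨y, rfl⟩, κ (0, z), ⟨z, rfl⟩, ?_⟩
    rw [← map_add]
    simp

/-- moving flags `A ≤ B ≤ C` by `SL(V)` -/
theorem move_flag3 [Module.Finite K V] (A B C A' B' C' : Submodule K V) (hAB : A ≤ B) (hBC : B ≤ C) (hAB' : A' ≤ B')
    (hBC' : B' ≤ C')
    (hA : finrank K A = finrank K A') (hB : finrank K B = finrank K B') (hC : finrank K C = finrank K C') :
    ∃ x : V ≃ₗ[K] V, LinearMap.det (x : V →ₗ[K] V) = 1 ∧ A.map (x : V →ₗ[K] V) = A' ∧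
      B.map (x : V →ₗ[K] V) = B' ∧ C.map (x : V →ₗ[K] V) = C' := by
  have h1 : finrank K A ≤ finrank K B := Submodule.finrank_mono hAB
  have h2 : finrank K B ≤ finrank K C := Submodule.finrank_mono hBC
  have h3 : finrank K C ≤ finrank K V := Submodule.finrank_le C
  have key : ∀ A B C : Submodule K V, A ≤ B → B ≤ C → ∀ a b c d : ℕ, finrank K A = a → finrank K A + b = finrank K B →
      finrank K B + c = finrank K C → finrank K C + d = finrank K V →
      ∃ β : Basis (((Fin a ⊕ Fin b) ⊕ Fin c) ⊕ Fin d) K V,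
        Submodule.span K (Set.range fun i => β (Sum.inl (Sum.inl (Sum.inl i)))) = A ∧
        Submodule.span K (Set.range fun i => β (Sum.inl (Sum.inl i))) = B ∧
        Submodule.span K (Set.range fun i => β (Sum.inl i)) = C := by
    intro A B C hAB hBC a b c d ha hb hc hd
    let βA : Basis (Fin a) K A := finBasisOfFinrankEq K A ha
    have hvA : LinearIndependent K (fun i => (βA i : V)) :=
      βA.linearIndependent.map' A.subtype (Submodule.ker_subtype A)
    have hsA : Submodule.span K (Set.range fun i => (βA i : V)) = A := by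
      have h1 : (fun i => (βA i : V)) = A.subtype ∘ βA := rfl
      rw [h1, Set.range_comp, Submodule.span_image, βA.span_eq, Submodule.map_top, Submodule.range_subtype]
    obtain ⟨t, ht1, ht2⟩ := ext_step _ hvA A B hsA hAB b hb
    obtain ⟨t', ht1', ht2'⟩ := ext_step _ ht1 B C ht2 hBC c hc
    obtain ⟨t'', ht1'', ht2''⟩ := ext_step _ ht1' C ⊤ ht2' le_top d (by rw [hd, finrank_top])
    refine ⟨Basis.mk ht1'' (by rw [ht2'']), ?_, ?_, ?_⟩
    · simpa using hsA
    · simpa using ht2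
    · simpa using ht2'
  obtain ⟨b, hb1, hb2, hb3⟩ := key A B C hAB hBC (finrank K A) (finrank K B - finrank K A)
    (finrank K C - finrank K B) (finrank K V - finrank K C) rfl (by omega) (by omega) (by omega)
  obtain ⟨b', hb1', hb2', hb3'⟩ := key A' B' C' hAB' hBC' (finrank K A) (finrank K B - finrank K A)
    (finrank K C - finrank K B) (finrank K V - finrank K C) hA.symm (by omega) (by omega) (by omega)
  obtain ⟨x, hx, h⟩ := move_basis' b b'
  refine ⟨x, hx, ?_, ?_, ?_⟩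
  · rw [← hb1, ← hb1']
    exact map_span_of x _ _ fun i => h _
  · rw [← hb2, ← hb2']
    exact map_span_of x _ _ fun i => h _
  · rw [← hb3, ← hb3']
    exact map_span_of x _ _ fun i => h _

/-- case (IV): `(a, c) = (3, 1)` -/
theorem red_three_b [Finite K] [Module.Finite K V] {S : Subgroup (Equiv.Perm V)} {A B : Submodule K V} {w : Fin 3 → V}
    (h : Sec S A B w) (hc : finrank K B + 1 = finrank K V) (hn : 2 * finrank K A < finrank K V)
    (h3 : finrank K A = 3) : FiveV K V S := by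
  by_cases h7 : finrank K V = 7
  · exact fiveV_rigid S h.semi A h.invA 3 h3 (Or.inr (Or.inl ⟨by omega, by omega⟩))
  have hU1 := finrank_U A w
  have hUB : A ⊔ Submodule.span K (Set.range w) ≤ B :=
    sup_le h.le (Submodule.span_le.2 (by rintro _ ⟨j, rfl⟩; exact h.mem j))
  obtain ⟨V₀, hUV, hVB, hV0⟩ := exists_between' (A ⊔ Submodule.span K (Set.range w)) B hUB 6 (by omega) (by omega)
  have hAV : A ≤ V₀ := le_sup_left.trans hUV
  have hwV : ∀ j, w j ∈ V₀ := fun j =>
    (le_sup_right.trans hUV : Submodule.span K (Set.range w) ≤ V₀) (Submodule.subset_span ⟨j, rfl⟩)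
  -- another hyperplane
  obtain ⟨H, hH1, hH2, hH3⟩ : ∃ H : Submodule K V, V₀ ≤ H ∧ finrank K H = finrank K B ∧ B ⊔ H = ⊤ := by
    obtain ⟨v, hv, hv0⟩ : ∃ v ∈ B, v ∉ V₀ := by
      by_contra hcon
      push Not at hcon
      have h4 : B ≤ V₀ := hcon
      have h5 := Submodule.finrank_mono h4
      omega
    obtain ⟨E, hE⟩ := Submodule.exists_isCompl (V₀ ⊔ Submodule.span K {v})
    have hE' := Submodule.finrank_add_eq_of_isCompl hE
    rw [Submodule.finrank_sup_span_singleton hv0] at hE'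
    have hd : Disjoint V₀ E := hE.disjoint.mono_left le_sup_left
    refine ⟨V₀ ⊔ E, le_sup_left, ?_, ?_⟩
    · have := Submodule.finrank_sup_add_finrank_inf_eq V₀ E
      rw [hd.eq_bot, finrank_bot] at this
      omega
    · rw [eq_top_iff, ← hE.sup_eq_top]
      refine sup_le (sup_le (le_sup_left.trans le_sup_right) ?_) (le_sup_right.trans le_sup_right)
      rw [Submodule.span_singleton_le_iff_mem]
      exact Submodule.mem_sup_left hv
  obtain ⟨A', hA0, hA1, hA2, hA', hrig⟩ := rigid5_two A V₀ hAV 3 h3 (by omega) (by omega)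
  let B' : Fin 5 → Submodule K V := ![B, B, H, H, B]
  have hB' : ∀ i, V₀ ≤ B' i ∧ finrank K (B' i) = finrank K B := by
    intro i
    fin_cases i
    · exact ⟨hVB, rfl⟩
    · exact ⟨hVB, rfl⟩
    · exact ⟨hH1, hH2⟩
    · exact ⟨hH1, hH2⟩
    · exact ⟨hVB, rfl⟩
  have hy : ∀ i, ∃ y : V ≃ₗ[K] V, LinearMap.det (y : V →ₗ[K] V) = 1 ∧ A.map (y : V →ₗ[K] V) = A' i ∧
      V₀.map (y : V →ₗ[K] V) = V₀ ∧ B.map (y : V →ₗ[K] V) = B' i := fun i =>
    move_flag3 A V₀ B (A' i) V₀ (B' i) hAV hVB (hA' i).1 (hB' i).1 (h3.trans (hA' i).2.symm) rfl (hB' i).2.symm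
  choose y hy1 hy2 hy3 hy4 using hy
  refine fiveV_of (fun i => y i.succ) (fun i => hy1 _) fun g hg hi => ?_
  have hgS := h.semi hg
  obtain ⟨l, hl⟩ := hrig g hgS fun i v hv => by
    rcases Fin.eq_zero_or_eq_succ i with rfl | ⟨j, rfl⟩
    · rw [hA0] at hv ⊢
      exact h.invA g hg v hv
    · exact fix_move h.invA (y j.succ) (hy2 _) g (hi j) v hv
  have h0 : ∀ v ∈ B, g v - (l : K) • v ∈ A :=
    h.scalar hg fun j => by rw [hl _ (hwV j), sub_self]; exact A.zero_mem
  have hs : ∀ i : Fin 4, ∀ u ∈ B' i.succ, g u - (l : K) • u ∈ A' i.succ := by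
    intro i u hu
    rw [← hy4] at hu
    rw [← hy2]
    refine sec_move h (y i.succ) g (hi i) l (fun j => hl _ ?_) u hu
    rw [← hy3 i.succ]
    exact ⟨w j, hwV j, rfl⟩
  have hB0 : ∀ v ∈ B, g v - (l : K) • v = 0 := fun v hv =>
    (Submodule.disjoint_def.1 hA1) _ (by rw [hA0]; exact h0 v hv) (hs 0 v hv)
  have hH0 : ∀ v ∈ H, g v - (l : K) • v = 0 := fun v hv =>
    (Submodule.disjoint_def.1 hA2) _ (hs 1 v hv) (hs 2 v hv)
  refine ⟨l, Equiv.ext fun v => ?_⟩
  have hv : v ∈ B ⊔ H := by rw [hH3]; exact Submodule.mem_top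
  obtain ⟨x, hx, z, hz, rfl⟩ := Submodule.mem_sup.1 hv
  change g (x + z) = (l : K) • (x + z)
  rw [semi_add hgS, sub_eq_zero.1 (hB0 x hx), sub_eq_zero.1 (hH0 z hz), smul_add]

/-- **RED-III** -/
theorem red_three [Finite K] [Module.Finite K V] {S : Subgroup (Equiv.Perm V)} {A B : Submodule K V} {w : Fin 3 → V}
    (h : Sec S A B w) (c : ℕ) (hc : finrank K B + c = finrank K V) (hn : 2 * finrank K A < finrank K V)
    (h3 : c + 3 ≤ finrank K A ∨ (finrank K A = 3 ∧ c = 1)) : FiveV K V S := by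
  rcases h3 with h3 | ⟨h3, rfl⟩
  · exact red_three_a h c hc hn h3
  · exact red_three_b h hc hn h3

end Cfsg.Agent.H246.FC
end

-- part: H754/FC/Red
section
/-!
# S5764, `StmtRed`: assembly (helper754)
-/

set_option autoImplicit false

namespace Cfsg.Agent.H754.FC

open Cfsg.Agent.H198.FC Module

universe u v v'

/-- the reducible case with a base of size 3 on `B / A`, and `codim B ≤ dim A < dim V / 2` -/
theorem red_core {K : Type u} [Field K] [Finite K] {V : Type v} [AddCommGroup V] [Module K V] [Module.Finite K V]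
    {S : Subgroup (Equiv.Perm V)} {A B : Submodule K V} {w : Fin 3 → V} (h : Sec S A B w) (hsol : Group.IsSolvable S)
    (c : ℕ) (hc : finrank K B + c = finrank K V) (hn : 2 * finrank K A < finrank K V)
    (h1 : 1 ≤ finrank K A) (h2 : c ≤ finrank K A)
    (IH : ∀ m, 2 ≤ m → m < finrank K V → (m = 2 → 4 ≤ Nat.card K) → ThmV.{u, v} K m) : FiveV K V S := by
  by_cases h3 : c + 3 ≤ finrank K A ∨ (finrank K A = 3 ∧ c = 1)
  · exact H246.FC.red_three h c hc hn h3
  rcases Nat.eq_zero_or_pos c with rfl | hc0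
  · have hB : B = ⊤ := Submodule.eq_top_of_finrank_eq (by omega)
    subst hB
    exact H200.FC.red_one h (by omega) hn
  · by_cases h6 : finrank K V = 3 * finrank K A
    · exact H246.FC.fiveV_rigid S h.semi A h.invA _ rfl (Or.inr (Or.inr h6))
    · exact red_two' h hsol c hc hn hc0 h2 (by omega) h6 IH

/-- **the reducible case (without correlations)** -/
theorem stmtRed : StmtRed.{u, v} := by
  intro K _ _ V _ _ _ S hS hh hsol _ IH hW
  obtain ⟨W, hW0, hW1, hW⟩ := hW
  have hWpos : 0 < finrank K W := by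
    rw [Nat.pos_iff_ne_zero, Ne, Submodule.finrank_eq_zero]
    exact hW0
  have hWlt : finrank K W < finrank K V := Submodule.finrank_lt hW1
  have : Finite V := Module.finite_of_finite K
  have : Finite (Submodule K V) := inferInstance
  -- `A` is a maximal invariant subspace of dimension `< n / 2`
  obtain ⟨A, ⟨invA, hA⟩, hAmax⟩ := Set.exists_max_image
    {A : Submodule K V | (∀ g ∈ S, ∀ v ∈ A, g v ∈ A) ∧ 2 * finrank K A < finrank K V} (fun A => finrank K A)
    (Set.toFinite _) ⟨⊥, fun g hg v hv => by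
      rw [Submodule.mem_bot] at hv ⊢
      rw [hv, semi_zero (hS hg)], by rw [finrank_bot]; omega⟩
  -- `B` is minimal invariant above `A`
  have hAtop : A ≠ ⊤ := by
    rintro rfl
    rw [finrank_top] at hA
    omega
  obtain ⟨B, ⟨invB, hAB⟩, hBmin⟩ := Set.exists_min_image
    {B : Submodule K V | (∀ g ∈ S, ∀ v ∈ B, g v ∈ B) ∧ A < B} (fun A => finrank K A)
    (Set.toFinite _) ⟨⊤, fun _ _ _ _ => Submodule.mem_top, lt_top_iff_ne_top.2 hAtop⟩
  have irr : ∀ C : Submodule K V, A ≤ C → C ≤ B → (∀ g ∈ S, ∀ v ∈ C, g v ∈ C) → C = A ∨ C = B := by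
    intro C hAC hCB invC
    by_cases hC : C = A
    · exact Or.inl hC
    · right
      have := hBmin C ⟨invC, lt_of_le_of_ne hAC (Ne.symm hC)⟩
      exact Submodule.eq_of_le_of_finrank_le hCB this
  have hAB' : finrank K A < finrank K B := Submodule.finrank_lt_finrank_of_lt hAB
  have hB : finrank K V ≤ 2 * finrank K B := by
    by_contra hlt
    have := hAmax B ⟨invB, not_le.1 hlt⟩
    omega
  rcases hB.eq_or_lt with hB | hB
  · exact H246.FC.fiveV_rigid S hS B invB _ rfl (Or.inl hB)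
  have hBle : finrank K B ≤ finrank K V := Submodule.finrank_le B
  obtain ⟨c, hc⟩ : ∃ c, finrank K B + c = finrank K V := ⟨finrank K V - finrank K B, by omega⟩
  have hne : 1 ≤ finrank K A ∨ 1 ≤ c := by
    by_contra hcon
    have h1 : A = ⊥ := by
      rw [← Submodule.finrank_eq_zero (R := K)]
      omega
    have h2 : B = ⊤ := Submodule.eq_top_of_finrank_eq (by omega)
    rcases irr W (by rw [h1]; exact bot_le) (by rw [h2]; exact le_top) hW with h | h
    · exact hW0 (h.trans h1)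
    · exact hW1 (h.trans h2)
  rcases le_or_gt c (finrank K A) with hca | hca
  · obtain ⟨w, hw⟩ := exists_sec hS hh hsol hAB.le invA invB irr
    exact red_core hw hsol c hc hA (by omega) hca IH
  · obtain ⟨S', hS', hh', hsol', hinv, hfive⟩ := H246.FC.dual_five S hS hh hsol
    refine hfive ?_
    have fA : finrank K A.dualAnnihilator + finrank K A = finrank K V := by
      rw [add_comm]
      exact Subspace.finrank_add_finrank_dualAnnihilator_eq A
    have fB : finrank K B.dualAnnihilator + finrank K B = finrank K V := by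
      rw [add_comm]
      exact Subspace.finrank_add_finrank_dualAnnihilator_eq B
    have fD : finrank K (Dual K V) = finrank K V := Subspace.dual_finrank_eq
    have irr' : ∀ C : Submodule K (Dual K V), B.dualAnnihilator ≤ C → C ≤ A.dualAnnihilator →
        (∀ g ∈ S', ∀ v ∈ C, g v ∈ C) → C = B.dualAnnihilator ∨ C = A.dualAnnihilator := by
      intro C hBC hCA invC
      have e : C.dualCoannihilator.dualAnnihilator = C := Subspace.dualCoannihilator_dualAnnihilator_eq
      have h1 : A ≤ C.dualCoannihilator := by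
        rw [← Subspace.dualAnnihilator_le_dualAnnihilator_iff, e]
        exact hCA
      have h2 : C.dualCoannihilator ≤ B := by
        rw [← Subspace.dualAnnihilator_le_dualAnnihilator_iff, e]
        exact hBC
      rcases irr _ h1 h2 ((hinv _).2 (by rw [e]; exact invC)) with h | h
      · right
        rw [← e, h]
      · left
        rw [← e, h]
    obtain ⟨w, hw⟩ := exists_sec hS' hh' hsol' (Submodule.dualAnnihilator_anti hAB.le)
      ((hinv B).1 invB) ((hinv A).1 invA) irr'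
    refine red_core hw hsol' (finrank K A) (by omega) (by omega) (by omega) (by omega) fun m hm hm' hm2 => ?_
    rw [fD] at hm'
    obtain ⟨V₁, -, -, h₁⟩ := exists_between (bot_le : (⊥ : Submodule K V) ≤ ⊤) m (by
      rw [finrank_bot, finrank_top]; omega)
    rw [finrank_bot, zero_add] at h₁
    exact thmV_univ m V₁ h₁ (IH m hm hm' hm2)

end Cfsg.Agent.H754.FC
end
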